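import Cfsg.Agent.Lib.OrbitEnum.Closed
import Mathlib.Data.Set.Card.Arithmetic
import Mathlib.Algebra.BigOperators.Fin

/-!
# Separating the orbits and counting their points

The numbers of directions from one orbit into another separate the orbits, and double counting
gives the sizes.
-/

set_option autoImplicit false

namespace CfsgLib.OrbitEnum

/-- A row of the table: target, number of directions, and their mask. -/
abbrev Row : Type := List (ℕ × ℕ × ℕ)

/-- The union of the masks of a row. -/
def rowUnion : Row → ℕ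
  | [] => 0
  | e :: r => e.2.2 ||| rowUnion r

/-- The masks are disjoint and the targets differ. -/
def rowDisj : Row → Bool
  | [] => true
  | e :: r => Nat.beq (e.2.2 &&& rowUnion r) 0 && (r.all fun f => !Nat.beq e.1 f.1) && rowDisj r

/-- The check of a row. -/
def rowOk (n nv : ℕ) (r : Row) : Bool :=
  rowDisj r && Nat.beq (rowUnion r) (2 ^ n - 1) &&
    r.all fun e => Nat.blt e.1 nv && Nat.beq ((List.range n).countP fun c => e.2.2.testBit c) e.2.1

/-- The entry of a row. -/
def rowDeg : Row → ℕ → ℕ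
  | [], _ => 0
  | e :: r, k => bif Nat.beq e.1 k then e.2.1 else rowDeg r k

theorem rowUnion_testBit : ∀ {r : Row} {c : ℕ}, (rowUnion r).testBit c = true →
    ∃ e ∈ r, e.2.2.testBit c = true
  | [], c, h => by simp [rowUnion] at h
  | e :: r, c, h => by
    rw [rowUnion, Nat.testBit_or, Bool.or_eq_true] at h
    rcases h with h | h
    · exact ⟨e, List.mem_cons_self, h⟩
    · obtain ⟨f, hf, hb⟩ := rowUnion_testBit h
      exact ⟨f, List.mem_cons_of_mem _ hf, hb⟩

theorem testBit_rowUnion : ∀ {r : Row} {e : ℕ × ℕ × ℕ} {c : ℕ}, e ∈ r → e.2.2.testBit c = true →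
    (rowUnion r).testBit c = true
  | f :: r, e, c, he, h => by
    rw [rowUnion, Nat.testBit_or, Bool.or_eq_true]
    rcases List.mem_cons.1 he with rfl | he
    · exact Or.inl h
    · exact Or.inr (testBit_rowUnion he h)

theorem rowDisj_unique : ∀ {r : Row}, rowDisj r = true → ∀ {e f : ℕ × ℕ × ℕ} {c : ℕ}, e ∈ r → f ∈ r →
    e.2.2.testBit c = true → f.2.2.testBit c = true → e = f
  | g :: r, h, e, f, c, he, hf, be, bf => by
    simp only [rowDisj, Bool.and_eq_true, Nat.beq_eq] at h
    have key : ∀ x ∈ r, x.2.2.testBit c = true → g.2.2.testBit c = true → False := by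
      intro x hx bx bg
      have := congrArg (fun m => m.testBit c) h.1.1
      simp [bg, testBit_rowUnion hx bx] at this
    rcases List.mem_cons.1 he with rfl | he' <;> rcases List.mem_cons.1 hf with rfl | hf'
    · rfl
    · exact (key f hf' bf be).elim
    · exact (key e he' be bf).elim
    · exact rowDisj_unique h.2 he' hf' be bf

theorem rowDeg_mem : ∀ {r : Row}, rowDisj r = true → ∀ {e : ℕ × ℕ × ℕ}, e ∈ r → rowDeg r e.1 = e.2.1
  | g :: r, h, e, he => by
    simp only [rowDisj, Bool.and_eq_true, List.all_eq_true, Bool.not_eq_true'] at h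
    rcases List.mem_cons.1 he with rfl | he
    · simp [rowDeg]
    · rw [rowDeg, h.1.2 e he]
      exact rowDeg_mem h.2 he

theorem rowDeg_absent : ∀ {r : Row} {k : ℕ}, (∀ e ∈ r, e.1 ≠ k) → rowDeg r k = 0
  | [], _, _ => rfl
  | g :: r, k, h => by
    have hg : Nat.beq g.1 k = false := by
      cases hb : Nat.beq g.1 k
      · rfl
      · exact absurd (Nat.beq_eq.mp hb) (h g List.mem_cons_self)
    rw [rowDeg, hg]
    exact rowDeg_absent fun e he => h e (List.mem_cons_of_mem _ he)

theorem row_key : ∀ {r : Row}, rowDisj r = true → ∀ {e f : ℕ × ℕ × ℕ}, e ∈ r → f ∈ r → e.1 = f.1 → e = f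
  | g :: r, h, e, f, he, hf, hk => by
    simp only [rowDisj, Bool.and_eq_true, List.all_eq_true, Bool.not_eq_true'] at h
    rcases List.mem_cons.1 he with rfl | he' <;> rcases List.mem_cons.1 hf with rfl | hf'
    · rfl
    · have := h.1.2 f hf'; simp [hk] at this
    · have := h.1.2 e he'; simp [hk] at this
    · exact row_key h.2 he' hf' hk

/-- The order of separation: each step names a vertex and an earlier column separating it. -/
def sepOk (nv : ℕ) (deg : ℕ → ℕ → ℕ) : List ℕ → List (ℕ × ℕ) → Bool
  | done, [] => (List.range nv).all fun k => done.contains k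
  | done, (j, m) :: st =>
    done.contains m && Nat.blt j nv &&
      ((List.range nv).all fun k =>
        Nat.beq k j || done.contains k || !Nat.beq (deg k m) (deg j m)) &&
      sepOk nv deg (j :: done) st

namespace Ctx

variable {P : Setting} {Q : Twist} {G X : Type} [Group G] [MulAction G X] (C : Ctx P Q G X)

/-- The direction of an element. -/
noncomputable def dir (m : P.Mg C.el) : ℕ := ((P.rho2 C.el m)⁻¹ (Setting.pt0 C.valid)).1

theorem dir_word {w : List ℕ} (hw : ltW P.ng w = true) :
    C.dir (wEval (P.mg C.el) w) = P.T2.img w 0 :=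
  img_of_hom C.valid.ok2 (Setting.rho2_hom C.valid) (C.valid.ng_eq.symm ▸ hw : ltW P.T2.ng w = true) _

theorem dir_fibre {c : ℕ} (hc : c < P.T2.n) :
    Set.ncard {m : P.Mg C.el | C.dir m = c} = chainSize P.kLevels := by
  haveI := Setting.m_finite C.valid C.gens
  rw [← Setting.fix_zero_card C.valid C.gens]
  have htop := C.valid.top_ok
  simp only [chainOk, Bool.and_eq_true, Nat.blt_eq, List.all_eq_true, Nat.beq_eq,
    Option.isSome_iff_exists] at htop
  obtain ⟨⟨⟨⟨-, hgens⟩, mk, hgrow⟩, -⟩, hpt⟩ := htop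
  rw [hpt] at hgrow
  let R : ℕ → Prop := fun i => ∃ x : P.Mg C.el, C.dir x = i
  have hR : ∀ w ∈ P.top.gens, ∀ p, R p → R (P.T2.img w p) := by
    rintro w hw p ⟨x, rfl⟩
    have hw2 := (hgens w hw).1
    refine ⟨x * wEval (P.mg C.el) w, ?_⟩
    simp only [dir, map_mul, mul_inv_rev, Equiv.Perm.mul_apply]
    exact img_of_hom C.valid.ok2 (Setting.rho2_hom C.valid) hw2 _
  obtain ⟨hin, hcount⟩ := grow_spec hR hgrow (fun i hi => by
    rw [Nat.testBit_two_pow, decide_eq_true_eq] at hi
    exact ⟨1, by simp [dir, Setting.pt0, hi]⟩)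
  obtain ⟨S, hS, hScard⟩ := hcount {0} (fun i hi => by
    rw [Finset.mem_singleton.1 hi]; exact Nat.testBit_two_pow_self)
  have hn : P.top.rows.length + 1 = P.T2.n := C.valid.top_len
  obtain ⟨x, hx⟩ : ∃ x : P.Mg C.el, C.dir x = c := by
    refine hin c (hS c ?_)
    rw [Finset.card_singleton, Nat.add_comm, hn, ← Finset.card_range P.T2.n] at hScard
    have : S = Finset.range P.T2.n := Finset.eq_of_subset_of_card_le (fun i hi => Finset.mem_range.2 (by
      obtain ⟨x, hx⟩ := hin i (hS i hi)
      exact hx ▸ Fin.isLt _)) hScard.ge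
    rw [this]
    exact Finset.mem_range.2 hc
  rw [← Nat.card_coe_set_eq]
  refine Nat.card_congr
    { toFun := fun m => ⟨m.1 * x⁻¹, ?_⟩
      invFun := fun k => ⟨k.1 * x, ?_⟩
      left_inv := fun m => Subtype.ext (inv_mul_cancel_right _ _)
      right_inv := fun k => Subtype.ext (mul_inv_cancel_right _ _) }
  · intro p hp
    rw [List.mem_singleton] at hp
    have hp' : p = Setting.pt0 C.valid := Fin.ext hp
    have e : (P.rho2 C.el m.1)⁻¹ (Setting.pt0 C.valid) = (P.rho2 C.el x)⁻¹ (Setting.pt0 C.valid) :=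
      Fin.ext (m.2.trans hx.symm)
    rw [map_mul, map_inv, Equiv.Perm.mul_apply, hp', ← e]
    exact Equiv.apply_symm_apply _ _
  · have hk := k.2 (Setting.pt0 C.valid) List.mem_cons_self
    show C.dir (k.1 * x) = c
    rw [← hx]
    simp only [dir, map_mul, mul_inv_rev, Equiv.Perm.mul_apply]
    rw [show (P.rho2 C.el k.1)⁻¹ (Setting.pt0 C.valid) = Setting.pt0 C.valid from
      Equiv.Perm.inv_eq_iff_eq.2 hk.symm]

variable (vert : ℕ → X) (nv : ℕ) (rows : ℕ → Row)

/-- The hypotheses: the rows are checked and say where the directions lead. -/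
structure Table : Prop where
  ok : ∀ i < nv, rowOk P.T2.n nv (rows i) = true
  good : ∀ i < nv, ∀ e ∈ rows i, ∀ c, e.2.2.testBit c = true → C.GoodTo (vert i) (vert e.1) c

variable {vert nv rows}

theorem table_closed (h : C.Table vert nv rows) : C.IsClosed vert nv := by
  intro i hi c hc
  have hok := h.ok i hi
  simp only [rowOk, Bool.and_eq_true, List.all_eq_true, Nat.blt_eq, Nat.beq_eq] at hok
  obtain ⟨e, he, hb⟩ := rowUnion_testBit (r := rows i) (c := c) (by
    rw [hok.1.2, Nat.testBit_two_pow_sub_one, decide_eq_true_eq]; exact hc)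
  exact ⟨e.1, (hok.2 e he).1, h.good i hi e he c hb⟩

/-- A vertex shares its orbit with no other vertex. -/
def Iso (vert : ℕ → X) (nv : ℕ) (j : ℕ) : Prop := ∀ k < nv, C.orb (vert k) = C.orb (vert j) → k = j

/-- The elements carrying a point into an orbit through u. -/
def into (p : X) (m : ℕ) (vert : ℕ → X) : Set (P.Mg C.el) :=
  {x | C.u • P.pr C.el x • p ∈ C.orb (vert m)}

theorem into_count (h : C.Table vert nv rows) {i m : ℕ} (hi : i < nv) (hm : m < nv)
    (hiso : C.Iso vert nv m) :
    (C.into (vert i) m vert).ncard = rowDeg (rows i) m * chainSize P.kLevels := by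
  haveI := Setting.m_finite C.valid C.gens
  classical
  have hok := h.ok i hi
  simp only [rowOk, Bool.and_eq_true, List.all_eq_true, Nat.blt_eq, Nat.beq_eq] at hok
  have hmem : ∀ x : P.Mg C.el, ∀ e ∈ rows i, e.2.2.testBit (C.dir x) = true →
      (x ∈ C.into (vert i) m vert ↔ e.1 = m) := by
    intro x e he hb
    obtain ⟨w, hw, rfl⟩ := Setting.word_of_mem C.valid C.gens x
    rw [C.dir_word hw] at hb
    have hg := h.good i hi e he _ hb w hw rfl
    show C.u • P.pr C.el _ • vert i ∈ C.orb (vert m) ↔ _
    rw [Setting.pr_wEval hw]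
    constructor
    · intro hq
      exact hiso _ (hok.2 e he).1 ((C.orb_eq hg).symm.trans (C.orb_eq hq))
    · rintro rfl
      exact hg
  have hdir : ∀ x : P.Mg C.el, ∃ e ∈ rows i, e.2.2.testBit (C.dir x) = true := fun x =>
    rowUnion_testBit (by rw [hok.1.2, Nat.testBit_two_pow_sub_one, decide_eq_true_eq]; exact Fin.isLt _)
  by_cases hex : ∃ e ∈ rows i, e.1 = m
  · obtain ⟨e, he, rfl⟩ := hex
    rw [rowDeg_mem hok.1.1 he]
    let D : Finset ℕ := (Finset.range P.T2.n).filter fun c => e.2.2.testBit c = true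
    have hD : D.card = e.2.1 := by
      rw [← (hok.2 e he).2, List.countP_eq_length_filter,
        ← List.toFinset_card_of_nodup ((List.nodup_range).filter _)]
      congr 1
      ext c
      simp [D]
    have hset : C.into (vert i) e.1 vert = ⋃ c ∈ (D : Set ℕ), {x | C.dir x = c} := by
      ext x
      simp only [Finset.mem_coe, Set.mem_iUnion, Set.mem_setOf_eq, exists_prop]
      obtain ⟨f, hf, hb⟩ := hdir x
      constructor
      · intro hx
        have hfe := (hmem x f hf hb).1 hx
        refine ⟨C.dir x, Finset.mem_filter.2 ⟨Finset.mem_range.2 (Fin.isLt _), ?_⟩, rfl⟩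
        have hd := rowDeg_mem hok.1.1 hf
        by_contra hne
        have : f ≠ e := fun ee => hne (ee ▸ hb)
        exact this (row_key hok.1.1 hf he hfe)
      · rintro ⟨c, hc, rfl⟩
        exact (hmem x e he (Finset.mem_filter.1 hc).2).2 rfl
    rw [hset, Set.Finite.ncard_biUnion (Finset.finite_toSet _) (fun c _ => Set.toFinite _) ?_,
      finsum_mem_coe_finset, Finset.sum_const_nat fun c hc => C.dir_fibre
        (Finset.mem_range.1 (Finset.mem_filter.1 hc).1), hD]
    intro c _ c' _ hne
    rw [Function.onFun, Set.disjoint_left]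
    exact fun x hx hx' => hne (hx.symm.trans hx')
  · push Not at hex
    rw [rowDeg_absent hex, zero_mul, Set.ncard_eq_zero (Set.toFinite _)]
    ext x
    simp only [Set.mem_empty_iff_false, iff_false]
    intro hx
    obtain ⟨f, hf, hb⟩ := hdir x
    exact hex f hf ((hmem x f hf hb).1 hx)

theorem into_congr {i j m : ℕ} (h : C.orb (vert i) = C.orb (vert j)) :
    (C.into (vert i) m vert).ncard = (C.into (vert j) m vert).ncard := by
  obtain ⟨g, hg⟩ : vert i ∈ C.orb (vert j) := h ▸ C.orb_self _
  have hg' : P.pr C.el g • vert j = vert i := hg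
  refine Set.ncard_congr (fun x _ => x * g) (fun x hx => ?_) (fun x y _ _ e => mul_right_cancel e)
    fun y hy => ⟨y * g⁻¹, ?_, inv_mul_cancel_right _ _⟩
  · show C.u • P.pr C.el (x * g) • vert j ∈ C.orb (vert m)
    rw [map_mul, mul_smul, hg']
    exact hx
  · show C.u • P.pr C.el (y * g⁻¹) • vert i ∈ C.orb (vert m)
    rw [map_mul, map_inv, mul_smul, ← hg', inv_smul_smul]
    exact hy

theorem sep_all (h : C.Table vert nv rows) :
    ∀ {st : List (ℕ × ℕ)} {done : List ℕ}, sepOk nv (fun i k => rowDeg (rows i) k) done st = true →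
      (∀ k ∈ done, k < nv ∧ C.Iso vert nv k) → ∀ k < nv, C.Iso vert nv k
  | [], done, e, hd, k, hk => by
    simp only [sepOk, List.all_eq_true, List.mem_range] at e
    exact (hd k (List.contains_iff_mem.1 (e k hk))).2
  | (j, m) :: st, done, e, hd, k, hk => by
    simp only [sepOk, Bool.and_eq_true, Nat.blt_eq, List.all_eq_true, List.mem_range,
      Bool.or_eq_true, Nat.beq_eq, Bool.not_eq_true'] at e
    obtain ⟨⟨⟨hm, hj⟩, hcol⟩, hrest⟩ := e
    obtain ⟨hm', hmi⟩ := hd m (List.contains_iff_mem.1 hm)
    have hjiso : C.Iso vert nv j := by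
      intro k hk hkj
      rcases hcol k hk with (he | he) | he
      · exact he
      · exact ((hd k (List.contains_iff_mem.1 he)).2 j hj hkj.symm).symm
      · exfalso
        have e2 := C.into_congr (m := m) hkj
        rw [C.into_count h hk hm' hmi, C.into_count h hj hm' hmi] at e2
        have hpos : 0 < chainSize P.kLevels := by
          rw [← Setting.fix_zero_card C.valid C.gens]
          haveI := Setting.m_finite C.valid C.gens
          exact Nat.card_pos
        rw [Nat.eq_of_mul_eq_mul_right hpos e2] at he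
        simp at he
    exact sep_all h hrest (fun k' hk' => by
      rcases List.mem_cons.1 hk' with rfl | hk'
      exacts [⟨hj, hjiso⟩, hd k' hk']) k hk

/-- The point is alone in its orbit when every other vertex has a loop. -/
theorem iso_zero (h : C.Table vert nv rows) (h0 : vert 0 = C.p0) (hne : C.u • C.p0 ≠ C.p0)
    (hloop : ∀ k < nv, k ≠ 0 → rowDeg (rows k) k ≠ 0) : C.Iso vert nv 0 := by
  intro k hk hk0
  by_contra hne0
  have hv : vert k = C.p0 := by
    have : vert k ∈ C.orb (vert 0) := hk0 ▸ C.orb_self _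
    obtain ⟨m, hm⟩ := this
    rw [← hm, h0]
    exact C.fixed m
  have hok := h.ok k hk
  simp only [rowOk, Bool.and_eq_true, List.all_eq_true, Nat.blt_eq, Nat.beq_eq] at hok
  obtain ⟨e, he, hek⟩ : ∃ e ∈ rows k, e.1 = k := by
    by_contra hcon
    push Not at hcon
    exact hloop k hk hne0 (rowDeg_absent hcon)
  have hdeg : e.2.1 ≠ 0 := by
    have := hloop k hk hne0
    have hm := rowDeg_mem hok.1.1 he
    rw [hek] at hm
    exact fun h0' => this (hm.trans h0')
  have hc : ∃ c < P.T2.n, e.2.2.testBit c = true := by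
    rw [← (hok.2 e he).2] at hdeg
    obtain ⟨c, hc, hb⟩ := List.countP_pos_iff.1 (Nat.pos_of_ne_zero hdeg)
    exact ⟨c, List.mem_range.1 hc, hb⟩
  obtain ⟨c, hc, hb⟩ := hc
  obtain ⟨x, hx⟩ : ∃ x : P.Mg C.el, C.dir x = c := by
    haveI := Setting.m_finite C.valid C.gens
    have hf := C.dir_fibre hc
    have hpos : 0 < chainSize P.kLevels := by
      rw [← Setting.fix_zero_card C.valid C.gens]; exact Nat.card_pos
    exact (Set.ncard_pos (Set.toFinite _)).1 (hf ▸ hpos)
  obtain ⟨w, hw, rfl⟩ := Setting.word_of_mem C.valid C.gens x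
  rw [C.dir_word hw] at hx
  have hg := h.good k hk e he c hb w hw hx
  rw [hv, C.stRoot hw, hek, hv] at hg
  obtain ⟨m, hm⟩ := hg
  exact hne (hm.symm.trans (C.fixed m))

/-- Double counting the edges between two orbits. -/
theorem balance (h : C.Table vert nv rows) (hiso : ∀ k < nv, C.Iso vert nv k) {i j : ℕ}
    (hi : i < nv) (hj : j < nv) :
    (C.orb (vert i)).ncard * rowDeg (rows i) j = (C.orb (vert j)).ncard * rowDeg (rows j) i := by
  classical
  haveI := Setting.m_finite C.valid C.gens
  haveI : Fintype (P.Mg C.el) := Fintype.ofFinite _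
  let Tf : ℕ → ℕ → Finset (X × P.Mg C.el) := fun i j =>
    ((C.orb_finite (vert i)).toFinset ×ˢ Finset.univ).filter fun e =>
      C.u • P.pr C.el e.2 • e.1 ∈ C.orb (vert j)
  have hcard : ∀ {i j : ℕ}, i < nv → j < nv → (Tf i j).card =
      (C.orb (vert i)).ncard * (rowDeg (rows i) j * chainSize P.kLevels) := by
    intro i j hi hj
    rw [Finset.card_filter, Finset.sum_product, Set.ncard_eq_toFinset_card _ (C.orb_finite _)]
    simp only [← Finset.card_filter]
    refine Finset.sum_const_nat fun p hp => ?_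
    have hp' : p ∈ C.orb (vert i) := (Set.Finite.mem_toFinset _).1 hp
    rw [← C.into_count h hi hj (hiso j hj), ← Set.ncard_coe_finset]
    obtain ⟨g, hg⟩ := hp'
    have hg' : P.pr C.el g • vert i = p := hg
    refine Set.ncard_congr (fun (x : P.Mg C.el) _ => x * g) (fun x hx => ?_)
      (fun x y _ _ e => mul_right_cancel e) fun y hy => ⟨y * g⁻¹, ?_, inv_mul_cancel_right _ _⟩
    · simp only [Finset.coe_filter, Finset.mem_univ, true_and, Set.mem_setOf_eq] at hx
      show C.u • P.pr C.el (x * g) • vert i ∈ C.orb (vert j)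
      rwa [map_mul, mul_smul, hg']
    · simp only [Finset.coe_filter, Finset.mem_univ, true_and, Set.mem_setOf_eq]
      rw [map_mul, map_inv, mul_smul, ← hg', inv_smul_smul]
      exact hy
  have hk := C.twist_ok
  simp only [Bool.and_eq_true] at hk
  have hpre := hk.1.1.1
  have hpost := hk.1.1.2
  let F : X × P.Mg C.el → X × P.Mg C.el := fun e =>
    ((P.pr C.el e.2)⁻¹ • C.W Q.post • C.u • P.pr C.el e.2 • e.1, e.2)
  have hF : ∀ i j, (Tf i j).card ≤ (Tf j i).card := by
    intro i j
    refine Finset.card_le_card_of_injOn F (fun e he => ?_) fun e _ f _ hef => ?_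
    · simp only [Tf, Finset.coe_filter, Finset.mem_product, Set.Finite.mem_toFinset, Finset.mem_univ,
        and_true, Set.mem_setOf_eq, F] at he ⊢
      obtain ⟨hp, hq⟩ := he
      refine ⟨?_, ?_⟩
      · have h1 := C.smul_mem_orb hpost hq
        obtain ⟨w, hw, ew⟩ := Setting.word_of_mem C.valid C.gens e.2⁻¹
        rw [← map_inv, ← ew, Setting.pr_wEval hw]
        exact C.smul_mem_orb hw h1
      · rw [smul_inv_smul]
        have e1 : C.u * C.W Q.post * C.u = (C.W Q.pre)⁻¹ := by
          have hu := C.u_inv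
          rw [show C.W Q.post = wEval C.el Q.post from rfl,
            show C.W Q.pre = wEval C.el Q.pre from rfl]
          calc C.u * wEval C.el Q.post * C.u
              = (wEval C.el Q.pre)⁻¹ * (wEval C.el Q.pre * C.u * wEval C.el Q.post) * C.u := by group
            _ = _ := by rw [← hu]; group
        rw [← mul_smul, ← mul_smul, e1, ← C.W_invW hpre]
        obtain ⟨w, hw, ew⟩ := Setting.word_of_mem C.valid C.gens e.2
        rw [← ew, Setting.pr_wEval hw]
        exact C.smul_mem_orb (ltW_invW (fun g hg => C.valid.ok1.xor_lt hg) hpre)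
          (C.smul_mem_orb hw hp)
    · simp only [F, Prod.mk.injEq] at hef
      obtain ⟨e1, e2⟩ := hef
      rw [e2] at e1
      exact Prod.ext (MulAction.injective (P.pr C.el f.2)
        (MulAction.injective C.u (MulAction.injective (C.W Q.post)
          (MulAction.injective (P.pr C.el f.2)⁻¹ e1)))) e2
  have e := le_antisymm (hF i j) (hF j i)
  rw [hcard hi hj, hcard hj hi, ← mul_assoc, ← mul_assoc] at e
  refine Nat.eq_of_mul_eq_mul_right ?_ e
  rw [← Setting.fix_zero_card C.valid C.gens]
  exact Nat.card_pos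

theorem orb_zero_card (h0 : vert 0 = C.p0) : (C.orb (vert 0)).ncard = 1 := by
  rw [Set.ncard_eq_one]
  exact ⟨vert 0, Set.eq_singleton_iff_unique_mem.2 ⟨C.orb_self _, by
    rintro q ⟨m, rfl⟩
    rw [h0]
    exact C.fixed m⟩⟩

/-- The number of points is the sum of the orbit sizes. -/
theorem card_eq [MulAction.IsPretransitive G X] (h : C.Table vert nv rows)
    (hiso : ∀ k < nv, C.Iso vert nv k) (h0 : vert 0 = C.p0) (hnv : 0 < nv)
    (hgen : Subgroup.closure (insert C.u (Set.range fun g : Fin P.ng => C.el g)) = ⊤) :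
    Nat.card X = ∑ j ∈ Finset.range nv, (C.orb (vert j)).ncard := by
  rw [← Set.ncard_univ, C.univ_eq (C.table_closed h) h0 hnv hgen,
    Set.Finite.ncard_biUnion (Finset.finite_toSet _) (fun j _ => C.orb_finite _) ?_,
    finsum_mem_coe_finset]
  intro i hi j hj hij
  rw [Finset.mem_coe, Finset.mem_range] at hi hj
  rw [Function.onFun, Set.disjoint_left]
  exact fun q hqi hqj => hij (hiso j hj i hi ((C.orb_eq hqi).symm.trans (C.orb_eq hqj)))

end Ctx

end CfsgLib.OrbitEnum
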