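import Cfsg.Agent.Lib.OrbitEnum.Deriv
import Cfsg.Agent.Lib.OrbitEnum.Exact

/-!
# Tables of directions from checked derivations
-/

set_option autoImplicit false

namespace CfsgLib.OrbitEnum

/-- Rows of trees, several to a number: each row is `256 * parent + generator`. -/
def decRows (l : List ℕ) : List (ℕ × ℕ) :=
  (l.map fun n => (digits 8388608 100 n).map fun v => (v / 256, v % 256)).flatten

/-- A claimed entry of the table of directions. -/
structure Entry where
  /-- the target -/
  dst : ℕ
  /-- the number of directions -/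
  deg : ℕ
  /-- the directions -/
  mask : ℕ
  /-- facts used as seeds, with their orientation -/
  seeds : List ℕ
  /-- stabiliser facts of the source -/
  gens : List ℕ
  /-- the packed tree -/
  tree : List ℕ

namespace Script

variable (R : Script) (P : Setting) (Q : Twist)

/-- The direction and the points of an oriented fact. -/
def seedDir (fd : ℕ) : ℕ :=
  let r := R.get (fd / 2)
  P.T2.img (bif Nat.beq (fd % 2) 1 then Q.post ++ r.y else r.x) 0

/-- The check of an entry at a vertex. -/
def entryOk (N p q : ℕ) (e : Entry) : Bool :=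
  (e.gens.all fun i =>
    let r := R.get i
    Nat.blt i N && Nat.beq r.kind 1 && Nat.beq r.src p && Nat.beq r.dst p && Nat.beq r.yc 1 &&
      ltW P.ng r.x) &&
  (e.seeds.all fun fd =>
    let r := R.get (fd / 2)
    let fl := Nat.beq (fd % 2) 1
    Nat.blt (fd / 2) N && Nat.beq r.kind 0 && Nat.beq (bif fl then r.dst else r.src) p &&
      Nat.beq (bif fl then r.src else r.dst) q &&
      ltW P.ng (bif fl then Q.post ++ r.y else r.x) &&
      ltW P.ng (bif fl then invW Q.pre ++ r.x else r.y) &&
      Nat.blt (R.seedDir P Q fd) P.T2.n) &&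
  match grow P.T2 (e.gens.map fun i => (R.get i).x) (decRows e.tree)
      (seedSet (e.seeds.map (R.seedDir P Q)) 0) with
  | some m => Nat.beq m e.mask
  | none => false

/-- All records in a range are right. -/
def rangeOk (lo len : ℕ) : Bool := (List.range len).all fun i => R.recOk P Q (lo + i)

/-- The parents come before their children. -/
def parOk : Bool := (List.range R.par.length).all fun k => Nat.blt (R.par.getD k (0, 0)).1 (k + 1)

end Script

/-- The rows of a table of entries. -/
def rowsOf (tab : List (List Entry)) (i : ℕ) : Row :=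
  (tab.getD i []).map fun e => (e.dst, e.deg, e.mask)

namespace Ctx

variable {P : Setting} {Q : Twist} {G X : Type} [Group G] [MulAction G X] (C : Ctx P Q G X)
variable (R : Script)

/-- The vertices of a script, with bounded recursion. -/
def vertAux : ℕ → ℕ → X
  | 0, _ => C.p0
  | _ + 1, 0 => C.p0
  | f + 1, k + 1 => C.u • C.W (decW (R.par.getD k (0, 0)).2) • vertAux f (R.par.getD k (0, 0)).1

/-- The vertices of a script. -/
def vertOf (k : ℕ) : X := C.vertAux R (R.par.length + 1) k

variable {R}

theorem vertAux_eq (h : R.parOk = true) : ∀ f g k : ℕ, k ≤ f → k ≤ g → k ≤ R.par.length →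
    C.vertAux R f k = C.vertAux R g k := by
  intro f
  induction f with
  | zero =>
    intro g k hf _ _
    obtain rfl : k = 0 := by omega
    cases g <;> rfl
  | succ f ih =>
    intro g k hf hg hk
    cases k with
    | zero => cases g <;> rfl
    | succ k =>
      cases g with
      | zero => omega
      | succ g =>
        have hp : (R.par.getD k (0, 0)).1 < k + 1 := by
          simp only [Script.parOk, List.all_eq_true, List.mem_range, Nat.blt_eq] at h
          exact h k hk
        simp only [vertAux]
        rw [ih g _ (by omega) (by omega) (by omega)]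

theorem vertsOk_of (h : R.parOk = true) : C.VertsOk R (C.vertOf R) := by
  refine ⟨rfl, fun k hk => ?_⟩
  have hp : (R.par.getD k (0, 0)).1 < k + 1 := by
    simp only [Script.parOk, List.all_eq_true, List.mem_range, Nat.blt_eq] at h
    exact h k hk
  show C.vertAux R (R.par.length + 1) (k + 1) = _
  simp only [vertAux, vertOf]
  rw [C.vertAux_eq h R.par.length (R.par.length + 1) _ (by omega) (by omega) (by omega)]

theorem entry_good {vert : ℕ → X} {N p q : ℕ} {e : Entry}
    (hN : ∀ i < N, C.Holds vert (R.get i)) (h : R.entryOk P Q N p q e = true) :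
    ∀ c, e.mask.testBit c = true → C.GoodTo (vert p) (vert q) c := by
  simp only [Script.entryOk, Bool.and_eq_true, List.all_eq_true, Nat.blt_eq, Nat.beq_eq] at h
  obtain ⟨⟨hg, hs⟩, hgrow⟩ := h
  split at hgrow
  next m hm =>
    rw [Nat.beq_eq] at hgrow
    subst hgrow
    refine C.goodTo_all (gens := e.gens.map fun i => (R.get i).x)
      (seeds := e.seeds.map (R.seedDir P Q)) ?_ ?_ ?_ hm
    · intro r hr
      obtain ⟨fd, hfd, rfl⟩ := List.mem_map.1 hr
      obtain ⟨⟨⟨⟨⟨⟨hn, hk⟩, ha⟩, hb⟩, hx⟩, hy⟩, -⟩ := hs fd hfd
      have hT := C.holds_T (hN _ hn) hk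
      have hk' := C.twist_ok
      simp only [Bool.and_eq_true] at hk'
      have hrefl : ∀ w, ltW P.ng w = true → P.same w w = true := fun w hw => by
        simp [Setting.same, hw]
      cases hf : Nat.beq (fd % 2) 1 with
      | false =>
        simp only [hf, cond_false] at ha hb hx hy
        rw [ha, hb] at hT
        refine C.goodTo_seed hT _ ?_
        simp [hx, hy, Script.seedDir, hf]
      | true =>
        simp only [hf, cond_true] at ha hb hx hy
        have hfl := C.flip hT (Q.post ++ (R.get (fd / 2)).y) (invW Q.pre ++ (R.get (fd / 2)).x)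
          (hrefl _ hx) (hrefl _ hy)
        rw [ha, hb] at hfl
        refine C.goodTo_seed hfl _ ?_
        simp [hx, hy, Script.seedDir, hf]
    · intro g hg'
      obtain ⟨i, hi, rfl⟩ := List.mem_map.1 hg'
      obtain ⟨⟨⟨⟨⟨hn, hk⟩, ha⟩, hb⟩, hy⟩, -⟩ := hg i hi
      exact C.holds_S (hN _ hn) hk hy ha hb
    · simp only [Bool.and_eq_true, List.all_eq_true, List.mem_map, Nat.blt_eq]
      refine ⟨?_, ?_⟩
      · rintro w ⟨i, hi, rfl⟩
        exact (hg i hi).2
      · rintro r ⟨fd, hfd, rfl⟩
        exact (hs fd hfd).2
  next => simp at hgrow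

/-- A checked table gives the hypotheses of the counting theorems. -/
theorem table_of {tab : List (List Entry)} {al : List ℕ} {N nv : ℕ} (hpar : R.parOk = true)
    (hrec : ∀ n < N, R.recOk P Q n = true)
    (hrow : ∀ i < nv, rowOk P.T2.n nv (rowsOf tab i) = true)
    (hent : ∀ i < nv, ∀ e ∈ tab.getD i [],
      R.entryOk P Q N (al.getD i 0) (al.getD e.dst 0) e = true) :
    C.Table (fun i => C.vertOf R (al.getD i 0)) nv (rowsOf tab) := by
  have hN := C.all_sound (C.vertsOk_of hpar) hrec
  refine ⟨hrow, fun i hi f hf c hc => ?_⟩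
  obtain ⟨e, he, rfl⟩ := List.mem_map.1 hf
  exact C.entry_good hN (hent i hi e he) c hc

theorem stab_holds {vert : ℕ → X} {N p : ℕ} (hN : ∀ i < N, C.Holds vert (R.get i)) {l w : List ℕ}
    (h : R.stab N p l = some w) : C.S (vert p) w := C.stab_sound hN h

end Ctx

end CfsgLib.OrbitEnum

namespace CfsgLib.OrbitEnum

namespace Script

/-- Levels whose generators are products of stabiliser facts at a vertex. -/
def stabLevels (R : Script) (N p : ℕ) (l : List (ℕ × List (List ℕ) × List ℕ)) : List Level :=
  l.map fun e => { pt := e.1, gens := e.2.1.map fun s => (R.stab N p s).getD [], rows := decRows e.2.2 }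

end Script

namespace Ctx

variable {P : Setting} {Q : Twist} {G X : Type} [Group G] [MulAction G X] (C : Ctx P Q G X)
variable {R : Script}

/-- A chain from stabiliser facts bounds the orbit of a vertex. -/
theorem orbit_le {vert : ℕ → X} {N p sz : ℕ} (hN : ∀ i < N, C.Holds vert (R.get i))
    {l : List (ℕ × List (List ℕ) × List ℕ)}
    (h : (chainOk P.T1 [] (R.stabLevels N p l) &&
      Nat.beq (sz * chainSize (R.stabLevels N p l)) P.size) = true) :
    (C.orb (vert p)).ncard ≤ sz := by
  simp only [Bool.and_eq_true, Nat.beq_eq] at h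
  have hb := C.orbit_bound (vert p) h.1 fun L hL w hw _ => by
    obtain ⟨e, -, rfl⟩ := List.mem_map.1 hL
    obtain ⟨s, -, rfl⟩ := List.mem_map.1 hw
    cases hs : R.stab N p s with
    | none => exact C.stOne _
    | some v => exact C.stab_holds hN hs
  haveI := Setting.m_finite C.valid C.gens
  have hpos : 0 < P.size := (Setting.m_card C.valid C.gens) ▸ Nat.card_pos
  have hc : 0 < chainSize (R.stabLevels N p l) := by
    rcases Nat.eq_zero_or_pos (chainSize (R.stabLevels N p l)) with h0 | h0
    · rw [h0, Nat.mul_zero] at h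
      omega
    · exact h0
  exact Nat.le_of_mul_le_mul_right (hb.trans h.2.ge) hc

/-- A closed set of vertices with bounded orbits bounds the number of points. -/
theorem card_le [MulAction.IsPretransitive G X] {vert : ℕ → X} {nv : ℕ}
    (hcl : C.IsClosed vert nv) (h0 : vert 0 = C.p0) (hnv : 0 < nv)
    (hgen : Subgroup.closure (insert C.u (Set.range fun g : Fin P.ng => C.el g)) = ⊤)
    {sz : ℕ → ℕ} (hsz : ∀ j < nv, (C.orb (vert j)).ncard ≤ sz j) :
    Finite X ∧ Nat.card X ≤ ∑ j ∈ Finset.range nv, sz j := by
  refine ⟨C.finite_set hcl h0 hnv hgen, ?_⟩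
  rw [← Set.ncard_univ, C.univ_eq hcl h0 hnv hgen]
  refine (Finset.set_ncard_biUnion_le (Finset.range nv) _).trans
    (Finset.sum_le_sum fun j hj => hsz j (Finset.mem_range.1 hj))

end Ctx

end CfsgLib.OrbitEnum
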