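import Mathlib.Algebra.BigOperators.Group.List.Basic
import Mathlib.GroupTheory.Perm.Basic
import Mathlib.Tactic.Group

/-!
# Words in letters and packed tables of permutations

Letters come in pairs: the inverse of the letter `g` is `g ^^^ 1`. A table gives the right action
of the letters on the points `0, …, n-1`.
-/

set_option autoImplicit false

namespace CfsgLib.OrbitEnum

/-- The value of a word. -/
def wEval {G : Type*} [Monoid G] (el : ℕ → G) (w : List ℕ) : G := (w.map el).prod

/-- The inverse of a word. -/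
def invW (w : List ℕ) : List ℕ := w.reverse.map fun g => g ^^^ 1

/-- All letters of a word are below a bound. -/
def ltW (ng : ℕ) (w : List ℕ) : Bool := w.all fun g => Nat.blt g ng

theorem ltW_iff {ng : ℕ} {w : List ℕ} : ltW ng w = true ↔ ∀ g ∈ w, g < ng := by
  simp [ltW, List.all_eq_true, Nat.blt_eq]

theorem ltW_append {ng : ℕ} {u v : List ℕ} :
    ltW ng (u ++ v) = true ↔ ltW ng u = true ∧ ltW ng v = true := by
  simp [ltW]

section Eval

variable {G : Type*} [Group G] (el : ℕ → G)

@[simp] theorem wEval_nil : wEval el [] = 1 := rfl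

theorem wEval_cons (g : ℕ) (w : List ℕ) : wEval el (g :: w) = el g * wEval el w := by
  simp [wEval]

theorem wEval_append (u v : List ℕ) : wEval el (u ++ v) = wEval el u * wEval el v := by
  simp [wEval]

theorem map_wEval {H : Type*} [Group H] (f : G →* H) (w : List ℕ) :
    f (wEval el w) = wEval (fun g => f (el g)) w := by
  simp [wEval, map_list_prod, List.map_map, Function.comp_def]

theorem wEval_congr {el' : ℕ → G} {ng : ℕ} {w : List ℕ} (hw : ltW ng w = true)
    (h : ∀ g < ng, el g = el' g) : wEval el w = wEval el' w :=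
  congrArg List.prod (List.map_congr_left fun g hg => h g (ltW_iff.1 hw g hg))

theorem wEval_invW {ng : ℕ} (h : ∀ g < ng, el (g ^^^ 1) = (el g)⁻¹) :
    ∀ {w : List ℕ}, ltW ng w = true → wEval el (invW w) = (wEval el w)⁻¹
  | [], _ => by simp [invW]
  | g :: w, hw => by
    have hg : g < ng := ltW_iff.1 hw g List.mem_cons_self
    have hw' : ltW ng w = true := ltW_iff.2 fun x hx => ltW_iff.1 hw x (List.mem_cons_of_mem _ hx)
    rw [show invW (g :: w) = invW w ++ [g ^^^ 1] from by simp [invW], wEval_append,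
      wEval_invW h hw', wEval_cons, wEval_cons, wEval_nil, mul_one, h g hg, mul_inv_rev]

end Eval

/-- The letters of the inverse word. -/
theorem ltW_invW {ng : ℕ} (hev : ∀ g < ng, g ^^^ 1 < ng) {w : List ℕ} (hw : ltW ng w = true) :
    ltW ng (invW w) = true := by
  refine ltW_iff.2 fun g hg => ?_
  obtain ⟨x, hx, rfl⟩ := List.mem_map.1 hg
  exact hev x (ltW_iff.1 hw x (List.mem_reverse.1 hx))

theorem xor_xor (g : ℕ) : g ^^^ 1 ^^^ 1 = g := by
  rw [Nat.xor_assoc, Nat.xor_self, Nat.xor_zero]

theorem invW_invW (w : List ℕ) : invW (invW w) = w := by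
  simp only [invW, List.map_reverse, List.reverse_reverse, List.map_map]
  exact (List.map_congr_left fun x _ => xor_xor x).trans (List.map_id w)

/-- A table: one packed number for each letter. -/
structure Tbl where
  /-- the number of points -/
  n : ℕ
  /-- the number of letters -/
  ng : ℕ
  /-- the width of a point -/
  width : ℕ
  /-- the packed images -/
  cols : List ℕ

namespace Tbl

/-- An entry of a list, with a cheap reduction. -/
def entry (l : List ℕ) : ℕ → ℕ :=
  List.rec (fun _ => 0) (fun a _ ih j => bif Nat.beq j 0 then a else ih (Nat.sub j 1)) l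

variable (T : Tbl)

/-- The image of a point under a letter. -/
def step (g i : ℕ) : ℕ :=
  Nat.mod (Nat.shiftRight (entry T.cols g) (Nat.mul T.width i)) (Nat.pow 2 T.width)

/-- The image of a point under a word. -/
def img (w : List ℕ) : ℕ → ℕ := List.rec (fun i => i) (fun g _ ih i => ih (T.step g i)) w

@[simp] theorem img_nil (i : ℕ) : T.img [] i = i := rfl

theorem img_cons (g : ℕ) (w : List ℕ) (i : ℕ) : T.img (g :: w) i = T.img w (T.step g i) := rfl

/-- The check of one letter. -/
def letterOk (g : ℕ) : Bool :=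
  Nat.blt (g ^^^ 1) T.ng && (List.range T.n).all fun i =>
    Nat.blt (T.step g i) T.n && Nat.beq (T.step (g ^^^ 1) (T.step g i)) i

/-- The table is a table of permutations. -/
def Ok : Prop := ∀ g < T.ng, T.letterOk g = true

/-- A word fixes all points. -/
def fixAll (w : List ℕ) : Bool :=
  ltW T.ng w && (List.range T.n).all fun i => Nat.beq (T.img w i) i

variable {T}

theorem Ok.xor_lt (h : T.Ok) {g : ℕ} (hg : g < T.ng) : g ^^^ 1 < T.ng := by
  have := h g hg
  simp only [letterOk, Bool.and_eq_true, Nat.blt_eq] at this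
  exact this.1

theorem Ok.step_lt (h : T.Ok) {g i : ℕ} (hg : g < T.ng) (hi : i < T.n) :
    T.step g i < T.n ∧ T.step (g ^^^ 1) (T.step g i) = i := by
  have := h g hg
  simp only [letterOk, Bool.and_eq_true, List.all_eq_true, Nat.blt_eq, Nat.beq_eq,
    List.mem_range] at this
  exact this.2 i hi

theorem Ok.step_back (h : T.Ok) {g i : ℕ} (hg : g < T.ng) (hi : i < T.n) :
    T.step g (T.step (g ^^^ 1) i) = i := by
  have := (h.step_lt (h.xor_lt hg) hi).2
  rwa [xor_xor] at this

theorem Ok.img_lt (h : T.Ok) : ∀ {w : List ℕ}, ltW T.ng w = true → ∀ {i : ℕ}, i < T.n → T.img w i < T.n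
  | [], _, _, hi => hi
  | g :: w, hw, _, hi => h.img_lt
      (ltW_iff.2 fun x hx => ltW_iff.1 hw x (List.mem_cons_of_mem _ hx))
      (h.step_lt (ltW_iff.1 hw g List.mem_cons_self) hi).1

theorem img_append : ∀ (u v : List ℕ) (i : ℕ), T.img (u ++ v) i = T.img v (T.img u i)
  | [], _, _ => rfl
  | g :: u, v, i => by rw [List.cons_append, img_cons, img_append u v, img_cons]

theorem Ok.img_invW (h : T.Ok) : ∀ {w : List ℕ}, ltW T.ng w = true → ∀ {i : ℕ}, i < T.n →
    T.img (invW w) (T.img w i) = i
  | [], _, _, _ => rfl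
  | g :: w, hw, i, hi => by
    have hg := ltW_iff.1 hw g List.mem_cons_self
    have hw' : ltW T.ng w = true := ltW_iff.2 fun x hx => ltW_iff.1 hw x (List.mem_cons_of_mem _ hx)
    rw [show invW (g :: w) = invW w ++ [g ^^^ 1] from by simp [invW], img_append]
    show T.step (g ^^^ 1) (T.img (invW w) (T.img w (T.step g i))) = i
    rw [h.img_invW hw' (h.step_lt hg hi).1]
    exact (h.step_lt hg hi).2

variable (T)

open Classical in
/-- The permutation of a letter: a point goes to its image under the inverse letter. -/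
noncomputable def perm (g : ℕ) : Equiv.Perm (Fin T.n) :=
  if h : ∀ i < T.n, (T.step (g ^^^ 1) i < T.n ∧ T.step g i < T.n) ∧
      T.step g (T.step (g ^^^ 1) i) = i ∧ T.step (g ^^^ 1) (T.step g i) = i then
    { toFun := fun i => ⟨T.step (g ^^^ 1) i.1, (h i.1 i.2).1.1⟩
      invFun := fun i => ⟨T.step g i.1, (h i.1 i.2).1.2⟩
      left_inv := fun i => Fin.ext (h i.1 i.2).2.1
      right_inv := fun i => Fin.ext (h i.1 i.2).2.2 }
  else 1

variable {T}

theorem Ok.perm_apply (h : T.Ok) {g : ℕ} (hg : g < T.ng) (i : Fin T.n) :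
    ((T.perm g i : Fin T.n) : ℕ) = T.step (g ^^^ 1) i ∧
      (((T.perm g)⁻¹ i : Fin T.n) : ℕ) = T.step g i := by
  have hh : ∀ i < T.n, (T.step (g ^^^ 1) i < T.n ∧ T.step g i < T.n) ∧
      T.step g (T.step (g ^^^ 1) i) = i ∧ T.step (g ^^^ 1) (T.step g i) = i := fun i hi =>
    ⟨⟨(h.step_lt (h.xor_lt hg) hi).1, (h.step_lt hg hi).1⟩, h.step_back hg hi, (h.step_lt hg hi).2⟩
  rw [perm, dif_pos hh]
  exact ⟨rfl, rfl⟩

theorem Ok.perm_xor (h : T.Ok) {g : ℕ} (hg : g < T.ng) : T.perm (g ^^^ 1) = (T.perm g)⁻¹ := by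
  ext i
  rw [(h.perm_apply (h.xor_lt hg) i).1, (h.perm_apply hg i).2, xor_xor]

/-- The image under a word is the value of the inverse of its product. -/
theorem Ok.img_spec (h : T.Ok) : ∀ {w : List ℕ}, ltW T.ng w = true → ∀ i : Fin T.n,
    (((wEval T.perm w)⁻¹ i : Fin T.n) : ℕ) = T.img w i
  | [], _, i => by simp
  | g :: w, hw, i => by
    have hg := ltW_iff.1 hw g List.mem_cons_self
    rw [wEval_cons, mul_inv_rev, Equiv.Perm.mul_apply,
      h.img_spec (ltW_iff.2 fun x hx => ltW_iff.1 hw x (List.mem_cons_of_mem _ hx)), img_cons,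
      (h.perm_apply hg i).2]

theorem Ok.eval_eq_one (h : T.Ok) {w : List ℕ} (hw : T.fixAll w = true) : wEval T.perm w = 1 := by
  simp only [fixAll, Bool.and_eq_true, List.all_eq_true, Nat.beq_eq, List.mem_range] at hw
  rw [← inv_eq_one]
  ext i
  exact (h.img_spec hw.1 i).trans (hw.2 i.1 i.2)

end Tbl

end CfsgLib.OrbitEnum
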