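import Cfsg.Agent.Lib.OrbitEnum.Rules
import Mathlib.GroupTheory.GroupAction.Quotient
import Mathlib.Data.Set.Card
import Mathlib.Data.Finite.Prod

/-!
# Closed unions of orbits
-/

set_option autoImplicit false

namespace CfsgLib.OrbitEnum

namespace Ctx

variable {P : Setting} {Q : Twist} {G X : Type} [Group G] [MulAction G X] (C : Ctx P Q G X)

/-- The points reached from a point by A. -/
def orb (p : X) : Set X := Set.range fun m : P.Mg C.el => P.pr C.el m • p

theorem mem_orb {p : X} {w : List ℕ} (hw : ltW P.ng w = true) : C.W w • p ∈ C.orb p :=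
  ⟨wEval (P.mg C.el) w, by
    show P.pr C.el _ • p = _
    rw [Setting.pr_wEval hw]
    rfl⟩

theorem orb_self (p : X) : p ∈ C.orb p := ⟨1, by simp⟩

theorem orb_finite (p : X) : (C.orb p).Finite := by
  haveI := Setting.m_finite C.valid C.gens
  exact Set.finite_range _

theorem orb_iff {p q : X} : q ∈ C.orb p ↔ ∃ w, ltW P.ng w = true ∧ C.W w • p = q := by
  constructor
  · rintro ⟨m, rfl⟩
    obtain ⟨w, hw, rfl⟩ := Setting.word_of_mem C.valid C.gens m
    refine ⟨w, hw, ?_⟩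
    show _ = P.pr C.el _ • p
    rw [Setting.pr_wEval hw]
    rfl
  · rintro ⟨w, hw, rfl⟩
    exact C.mem_orb hw

theorem orb_eq {p q : X} (h : q ∈ C.orb p) : C.orb q = C.orb p := by
  obtain ⟨m, rfl⟩ := h
  ext r
  constructor
  · rintro ⟨n, rfl⟩
    exact ⟨n * m, by simp [map_mul, mul_smul]⟩
  · rintro ⟨n, rfl⟩
    exact ⟨n * m⁻¹, by simp [map_mul, mul_smul]⟩

theorem smul_mem_orb {p q : X} {w : List ℕ} (hw : ltW P.ng w = true) (h : q ∈ C.orb p) :
    C.W w • q ∈ C.orb p := C.orb_eq h ▸ C.mem_orb hw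

theorem fixed (m : P.Mg C.el) : P.pr C.el m • C.p0 = C.p0 := by
  obtain ⟨w, hw, rfl⟩ := Setting.word_of_mem C.valid C.gens m
  rw [Setting.pr_wEval hw]
  exact C.stRoot hw

/-- The twisted subgroup is carried through u into A. -/
theorem twist_mem {m : P.Mg C.el} (hm : m ∈ fixOf (P.rho2 C.el) [0]) :
    ∃ y : P.Mg C.el, C.u * P.pr C.el m = P.pr C.el y * C.u := by
  haveI := Setting.m_finite C.valid C.gens
  rw [Setting.fix_zero C.valid C.gens] at hm
  induction hm using Subgroup.closure_induction with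
  | mem x hx =>
    obtain ⟨w, hw, rfl⟩ := hx
    obtain ⟨i, hi, rfl⟩ := List.getElem_of_mem hw
    have hk := C.twist_ok
    simp only [Bool.and_eq_true, Nat.beq_eq, List.all_eq_true] at hk
    have hi' : i < Q.kth.length := hk.1.2 ▸ hi
    have hkg := List.all_eq_true.1 C.valid.kgens_ok _ (List.getElem_mem hi)
    rw [Bool.and_eq_true] at hkg
    refine ⟨wEval (P.mg C.el) Q.kth[i], ?_⟩
    rw [Setting.pr_wEval hkg.1, Setting.pr_wEval (hk.2 _ (List.getElem_mem hi'))]
    have := C.twist i hi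
    rwa [List.getD_eq_getElem _ _ hi, List.getD_eq_getElem _ _ hi'] at this
  | one => exact ⟨1, by simp⟩
  | mul x y _ _ ex ey =>
    obtain ⟨a, ha⟩ := ex
    obtain ⟨b, hb⟩ := ey
    refine ⟨a * b, ?_⟩
    rw [map_mul, map_mul, ← mul_assoc, ha, mul_assoc, hb, mul_assoc]
  | inv x _ ex =>
    obtain ⟨a, ha⟩ := ex
    refine ⟨a⁻¹, ?_⟩
    rw [map_inv, map_inv, mul_inv_eq_iff_eq_mul, mul_assoc, ha, inv_mul_cancel_left]

theorem twist_dir {w v : List ℕ} (hw : ltW P.ng w = true) (hv : ltW P.ng v = true)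
    (h : P.T2.img w 0 = P.T2.img v 0) :
    ∃ y : P.Mg C.el, C.u * C.W w = P.pr C.el y * (C.u * C.W v) := by
  have hw2 : ltW P.T2.ng w = true := C.valid.ng_eq.symm ▸ hw
  have hv2 : ltW P.T2.ng v = true := C.valid.ng_eq.symm ▸ hv
  have hn : ltW P.ng (w ++ invW v) = true :=
    ltW_append.2 ⟨hw, ltW_invW (fun g hg => C.valid.ok1.xor_lt hg) hv⟩
  have e : P.T2.img (w ++ invW v) 0 = 0 := by
    rw [Tbl.img_append, h]
    exact C.valid.ok2.img_invW hv2 (Setting.pt0 C.valid).2
  obtain ⟨y, hy⟩ := C.twist_mem (Setting.mem_fix_zero C.valid hn e)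
  refine ⟨y, ?_⟩
  rw [← mul_assoc, ← hy, Setting.pr_wEval hn, show wEval C.el (w ++ invW v) = C.W (w ++ invW v) from rfl,
    C.W_append, C.W_invW hv, mul_assoc, inv_mul_cancel_right]

/-- In a direction a point is moved into a given orbit. -/
def GoodTo (p q : X) (c : ℕ) : Prop :=
  ∀ w : List ℕ, ltW P.ng w = true → P.T2.img w 0 = c → C.u • C.W w • p ∈ C.orb q

theorem goodTo_seed {p q : X} {x v : List ℕ} (h : C.T p x q v) (r : ℕ)
    (e : (ltW P.ng x && ltW P.ng v && Nat.beq (P.T2.img x 0) r) = true) : C.GoodTo p q r := by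
  simp only [Bool.and_eq_true, Nat.beq_eq] at e
  obtain ⟨⟨hx, hv⟩, hr⟩ := e
  intro w hw hwr
  obtain ⟨y, hy⟩ := C.twist_dir hw hx (hwr.trans hr.symm)
  rw [← mul_smul, hy, mul_smul, mul_smul, (h : C.u • C.W x • p = C.W v • q)]
  obtain ⟨z, hz, rfl⟩ := Setting.word_of_mem C.valid C.gens y
  rw [Setting.pr_wEval hz]
  exact C.smul_mem_orb hz (C.mem_orb hv)

theorem goodTo_all {p q : X} {seeds : List ℕ} {gens : List (List ℕ)} {rows : List (ℕ × ℕ)} {m : ℕ}
    (hseed : ∀ r ∈ seeds, C.GoodTo p q r) (hgen : ∀ g ∈ gens, C.S p g)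
    (hlt : ((gens.all (ltW P.ng)) && seeds.all fun r => Nat.blt r P.T2.n) = true)
    (hgrow : grow P.T2 gens rows (seedSet seeds 0) = some m) :
    ∀ c, m.testBit c = true → C.GoodTo p q c := by
  simp only [Bool.and_eq_true, List.all_eq_true, Nat.blt_eq] at hlt
  let R : ℕ → Prop := fun c => c < P.T2.n ∧ C.GoodTo p q c
  have hR : ∀ g ∈ gens, ∀ c, R c → R (P.T2.img g c) := by
    intro g hg c ⟨hc, hgood⟩
    have hg1 : ltW P.ng g = true := hlt.1 g hg
    have hg2 : ltW P.T2.ng g = true := C.valid.ng_eq.symm ▸ hg1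
    refine ⟨C.valid.ok2.img_lt hg2 hc, fun w hw hwc => ?_⟩
    have hg3 := ltW_invW (fun g hg => C.valid.ok1.xor_lt hg) hg1
    have h1 := hgood (w ++ invW g) (ltW_append.2 ⟨hw, hg3⟩)
      (by rw [Tbl.img_append, hwc, C.valid.ok2.img_invW hg2 hc])
    rwa [C.W_append, C.W_invW hg1, mul_smul, inv_smul_eq_iff.2 (hgen g hg).symm] at h1
  obtain ⟨hall, -⟩ := grow_spec hR hgrow (fun i hi => by
    rcases seedSet_mem hi with hi | hi
    · exact ⟨hlt.2 i hi, hseed i hi⟩
    · simp at hi)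
  exact fun c hc => (hall c hc).2

variable (vert : ℕ → X) (nv : ℕ)

/-- Every direction from every vertex leads into the orbit of a vertex. -/
def IsClosed : Prop :=
  ∀ j < nv, ∀ c < P.T2.n, ∃ k < nv, C.GoodTo (vert j) (vert k) c

variable {vert nv}

/-- The union of the orbits of the vertices is everything. -/
theorem closed_all (hcl : C.IsClosed vert nv) (h0 : vert 0 = C.p0) (hnv : 0 < nv)
    (hgen : Subgroup.closure (insert C.u (Set.range fun g : Fin P.ng => C.el g)) = ⊤) :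
    ∀ g : G, ∃ j < nv, g • C.p0 ∈ C.orb (vert j) := by
  have hel : ∀ g < P.ng, ∀ q, (∃ j < nv, q ∈ C.orb (vert j)) → ∃ j < nv, C.el g • q ∈ C.orb (vert j) := by
    rintro g hg q ⟨j, hj, hq⟩
    refine ⟨j, hj, ?_⟩
    rw [show C.el g = C.W [g] from by simp [W, wEval_cons]]
    exact C.smul_mem_orb (ltW_iff.2 (by simpa using hg)) hq
  have hw : ∀ w, ltW P.ng w = true → ∀ q, (∃ j < nv, q ∈ C.orb (vert j)) →
      ∃ j < nv, C.W w • q ∈ C.orb (vert j) :=
    fun w hw q ⟨j, hj, hq⟩ => ⟨j, hj, C.smul_mem_orb hw hq⟩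
  have hu : ∀ q, (∃ j < nv, q ∈ C.orb (vert j)) → ∃ j < nv, C.u • q ∈ C.orb (vert j) := by
    rintro q ⟨j, hj, hq⟩
    obtain ⟨w, hw', rfl⟩ := C.orb_iff.1 hq
    have hw2 : ltW P.T2.ng w = true := C.valid.ng_eq.symm ▸ hw'
    obtain ⟨k, hk, hgood⟩ := hcl j hj _ (C.valid.ok2.img_lt hw2 (Setting.pt0 C.valid).2)
    exact ⟨k, hk, hgood w hw' rfl⟩
  intro g
  suffices h : ∀ q, (∃ j < nv, q ∈ C.orb (vert j)) → ∃ j < nv, g • q ∈ C.orb (vert j) from
    h _ ⟨0, hnv, h0 ▸ C.orb_self _⟩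
  induction (hgen.symm ▸ Subgroup.mem_top g :
      g ∈ Subgroup.closure (insert C.u (Set.range fun g : Fin P.ng => C.el g)))
    using Subgroup.closure_induction'' with
  | mem x hx =>
    rcases hx with rfl | ⟨i, rfl⟩
    · exact hu
    · exact hel i i.2
  | inv_mem x hx =>
    rcases hx with rfl | ⟨i, rfl⟩
    · intro q hq
      have hk := C.twist_ok
      simp only [Bool.and_eq_true] at hk
      rw [C.u_inv, mul_smul, mul_smul]
      exact hw _ hk.1.1.1 _ (hu _ (hw _ hk.1.1.2 _ hq))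
    · intro q hq
      rw [← C.gens.inv i i.2]
      exact hel _ (C.valid.ok1.xor_lt i.2) q hq
  | one => intro q hq; rwa [one_smul]
  | mul x y _ _ ex ey => intro q hq; rw [mul_smul]; exact ex _ (ey _ hq)

theorem univ_eq [MulAction.IsPretransitive G X] (hcl : C.IsClosed vert nv) (h0 : vert 0 = C.p0)
    (hnv : 0 < nv) (hgen : Subgroup.closure (insert C.u (Set.range fun g : Fin P.ng => C.el g)) = ⊤) :
    (Set.univ : Set X) = ⋃ j ∈ ((Finset.range nv : Finset ℕ) : Set ℕ), C.orb (vert j) := by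
  ext q
  obtain ⟨g, rfl⟩ := MulAction.exists_smul_eq G C.p0 q
  simpa using C.closed_all hcl h0 hnv hgen g

/-- The set acted on is finite. -/
theorem finite_set [MulAction.IsPretransitive G X] (hcl : C.IsClosed vert nv) (h0 : vert 0 = C.p0)
    (hnv : 0 < nv) (hgen : Subgroup.closure (insert C.u (Set.range fun g : Fin P.ng => C.el g)) = ⊤) :
    Finite X := by
  have hfin : (Set.univ : Set X).Finite := by
    rw [C.univ_eq hcl h0 hnv hgen]
    exact (Finset.range nv).finite_toSet.biUnion fun j _ => C.orb_finite _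
  exact Set.finite_univ_iff.1 hfin

/-- The orbit of a point times a bound for its stabiliser is at most the order. -/
theorem orbit_bound (p : X) {Ls : List Level} (h : chainOk P.T1 [] Ls = true)
    (hS : ∀ L ∈ Ls, ∀ w ∈ L.gens, ltW P.ng w = true → C.S p w) :
    (C.orb p).ncard * chainSize Ls ≤ P.size := by
  haveI := Setting.m_finite C.valid C.gens
  let K : Subgroup (P.Mg C.el) := (MulAction.stabilizer G p).comap (P.pr C.el)
  have hlt : ∀ {fixed : List ℕ} {Ls : List Level}, chainOk P.T1 fixed Ls = true →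
      ∀ L ∈ Ls, ∀ w ∈ L.gens, ltW P.T1.ng w = true := by
    intro fixed Ls
    induction Ls generalizing fixed with
    | nil => simp
    | cons L Ls ih =>
      intro h
      simp only [chainOk, Bool.and_eq_true, List.all_eq_true] at h
      intro L' hL' w hw
      rcases List.mem_cons.1 hL' with rfl | hL'
      · exact (h.1.1.2 w hw).1
      · exact ih h.2 L' hL' w hw
  have hsize : chainSize Ls ≤ Nat.card K :=
    chain_card C.valid.ok1 (P.rho1 C.el) (fun g hg => Setting.rho1_mg hg) K h fun L hL w hw => by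
      show P.pr C.el (wEval (P.mg C.el) w) • p = p
      rw [Setting.pr_wEval (hlt h L hL w hw)]
      exact hS L hL w hw (hlt h L hL w hw)
  have hwell : ∀ m m' : P.Mg C.el, m⁻¹ * m' ∈ K → P.pr C.el m • p = P.pr C.el m' • p := by
    intro m m' hm
    have hm' : P.pr C.el (m⁻¹ * m') • p = p := hm
    rwa [map_mul, map_inv, mul_smul, inv_smul_eq_iff, eq_comm] at hm'
  have hcard : (C.orb p).ncard ≤ K.index := by
    rw [← Nat.card_coe_set_eq, Subgroup.index]
    refine Nat.card_le_card_of_surjective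
      (fun q : P.Mg C.el ⧸ K => (⟨P.pr C.el q.out • p, ⟨q.out, rfl⟩⟩ : C.orb p)) ?_
    rintro ⟨_, m, rfl⟩
    refine ⟨(m : P.Mg C.el ⧸ K), Subtype.ext (hwell _ _ ?_)⟩
    exact QuotientGroup.eq.1 (QuotientGroup.out_eq' _)
  calc (C.orb p).ncard * chainSize Ls ≤ K.index * Nat.card K := Nat.mul_le_mul hcard hsize
    _ = P.size := by rw [Subgroup.index_mul_card, Setting.m_card C.valid C.gens]

end Ctx

end CfsgLib.OrbitEnum
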