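import Cfsg.Agent.Lib.OrbitEnum.Rules
import Mathlib.Data.Nat.Find

/-!
# Checked derivations of equations between points

A derivation is a list of records. Each record states a fact about the vertices and how it follows
from earlier records, so every record is checked by itself.
-/

set_option autoImplicit false

namespace CfsgLib.OrbitEnum

/-- Digits in base `b`, lowest first, below a leading digit one. -/
def digits (b : ℕ) : ℕ → ℕ → List ℕ
  | 0, _ => []
  | fuel + 1, n => bif Nat.ble n 1 then [] else n % b :: digits b fuel (n / b)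

/-- A packed word. -/
def decW (n : ℕ) : List ℕ := digits 16 400 n

/-- A packed list of indices of twisted generators. -/
def decK (n : ℕ) : List ℕ := digits 32 200 n

/-- A packed list of record numbers. -/
def decF (n : ℕ) : List ℕ := digits 32768 100 n

/-- A record: the kind of fact, the two points, and the numbers of its justification. -/
structure Rec where
  /-- the packed head: kind, rule, first vertex, second vertex -/
  head : ℕ
  /-- the packed first word -/
  xc : ℕ
  /-- the packed second word -/
  yc : ℕ
  /-- the justification -/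
  just : List ℕ

namespace Rec

/-- 0: an image under u, otherwise an equation. -/
def kind (r : Rec) : ℕ := r.head % 2

/-- The rule. -/
def rule (r : Rec) : ℕ := r.head / 2 % 16

/-- The first vertex. -/
def src (r : Rec) : ℕ := r.head / 32 % 64

/-- The second vertex. -/
def dst (r : Rec) : ℕ := r.head / 2048 % 64

/-- The first word. -/
def x (r : Rec) : List ℕ := decW r.xc

/-- The second word. -/
def y (r : Rec) : List ℕ := decW r.yc

end Rec

/-- The data of a derivation: records in chunks of 64, the parents of the vertices. -/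
structure Script where
  /-- the records -/
  recs : List (List Rec)
  /-- the parent and packed word of each vertex after the first -/
  par : List (ℕ × ℕ)

namespace Script

variable (R : Script)

/-- A record. -/
def get (i : ℕ) : Rec := (R.recs.getD (i / 64) []).getD (i % 64) ⟨1, 1, 1, []⟩

/-- The product of listed stabiliser facts at a vertex before record `n`, if it is valid. -/
def stab (n p : ℕ) : List ℕ → Option (List ℕ)
  | [] => some []
  | i :: l =>
    let r := R.get i
    bif Nat.blt i n && Nat.beq r.kind 1 && Nat.beq r.src p && Nat.beq r.dst p && Nat.beq r.yc 1 then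
      (stab n p l).map (fun w => r.x ++ w)
    else none

variable (P : Setting) (Q : Twist)

/-- One step through u: the number of a fact with its direction, stabiliser, twisted element. -/
def uStep (n p : ℕ) (u : List ℕ) : List ℕ → Option (ℕ × List ℕ)
  | [fd, lc, sc] =>
    let r := R.get (fd / 2)
    let flip := Nat.beq (fd % 2) 1
    let a := bif flip then r.dst else r.src
    let b := bif flip then r.src else r.dst
    let x := bif flip then Q.post ++ r.y else r.x
    let y := bif flip then invW Q.pre ++ r.x else r.y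
    let s := decK sc
    bif Nat.blt (fd / 2) n && Nat.beq r.kind 0 && Nat.beq a p then
      match R.stab n p (decF lc) with
      | some l =>
        bif P.same u (expand P.kgens s ++ x ++ l) && ltW P.ng y then
          some (b, expand Q.kth s ++ y) else none
      | none => none
    else none
  | _ => none

/-- A walk along steps. -/
def walk (n : ℕ) : List (Option (List ℕ)) → ℕ → List ℕ → List ℕ → Option (ℕ × List ℕ)
  | [], p, u, [] => some (p, u)
  | [], _, _, _ :: _ => none
  | some g :: ops, p, u, js => walk n ops p (g ++ u) js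
  | none :: ops, p, u, fd :: lc :: sc :: js =>
    match R.uStep P Q n p u [fd, lc, sc] with
    | some (q, v) => walk n ops q v js
    | none => none
  | none :: _, _, _, _ => none

/-- The end of a walk is the wanted point. -/
def endOk (n : ℕ) (got : Option (ℕ × List ℕ)) (q : ℕ) (v : List ℕ) (lc : ℕ) : Bool :=
  match got, R.stab n q (decF lc) with
  | some (q', v'), some l => Nat.beq q' q && P.same v' (v ++ l)
  | _, _ => false

/-- The check of record `n`. -/
def recOk (n : ℕ) : Bool :=
  let r := R.get n
  let T := Nat.beq r.kind 0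
  ltW P.ng r.x && ltW P.ng r.y &&
  match r.rule, r.just with
  | 0, [] => !T && Nat.beq r.src 0 && Nat.beq r.dst 0 && Nat.beq r.yc 1
  | 1, [] =>
    T && Nat.blt 0 r.dst && Nat.beq r.yc 1 && Nat.blt (r.dst - 1) R.par.length &&
      Nat.beq (R.par.getD (r.dst - 1) (0, 0)).1 r.src &&
      Nat.beq (R.par.getD (r.dst - 1) (0, 0)).2 r.xc
  | 2, k :: i :: pp :: pu :: la :: lb :: js =>
    let ops := Q.loops.getD k []
    let u0 := decW pu
    let A := ops.take i
    let B := (bif T then ops.drop (i + 1) else ops.drop i)
    let na := 3 * A.countP Option.isNone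
    (!T || (match ops.drop i with | none :: _ => true | _ => false)) &&
    ltW P.ng u0 &&
    R.endOk P n (R.walk P Q n A pp u0 (js.take na)) r.src r.x la &&
    R.endOk P n (R.walk P Q n B r.dst r.y (js.drop na)) pp u0 lb
  | 3, [f] =>
    let e := R.get f
    !T && Nat.blt f n && Nat.beq e.kind 1 && Nat.beq e.src e.dst && Nat.beq r.src e.src &&
      Nat.beq r.dst e.src && Nat.beq r.yc 1 && P.same r.x (invW e.x ++ e.y)
  | 4, [f, g] =>
    let e := R.get f
    let m := R.get g
    !T && Nat.blt f n && Nat.blt g n && Nat.beq e.kind 1 && Nat.beq e.yc 1 && Nat.beq e.src e.dst &&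
      Nat.beq m.kind 1 && Nat.beq m.src e.src && Nat.beq r.src m.dst && Nat.beq r.dst m.dst &&
      Nat.beq r.yc 1 && P.same r.x (invW m.y ++ m.x ++ e.x ++ invW m.x ++ m.y)
  | 5, [f, g] =>
    let e := R.get f
    let m := R.get g
    Nat.blt f n && Nat.blt g n && Nat.beq e.kind r.kind && Nat.beq m.kind 1 &&
      Nat.beq e.dst m.src && Nat.beq r.src e.src && Nat.beq r.xc e.xc && Nat.beq r.dst m.dst &&
      P.same r.y (e.y ++ invW m.x ++ m.y)
  | 6, [f, g] =>
    let e := R.get f
    let m := R.get g
    Nat.blt f n && Nat.blt g n && Nat.beq e.kind r.kind && Nat.beq m.kind 1 &&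
      Nat.beq e.src m.src && Nat.beq r.dst e.dst && Nat.beq r.yc e.yc && Nat.beq r.src m.dst &&
      P.same r.x (e.x ++ invW m.x ++ m.y)
  | 7, [p, uc, fd, lc, sc, fd', lc', sc'] =>
    !T &&
      match R.uStep P Q n p (decW uc) [fd, lc, sc], R.uStep P Q n p (decW uc) [fd', lc', sc'] with
      | some (q, v), some (q', v') =>
        Nat.beq q r.src && P.same r.x v && Nat.beq q' r.dst && P.same r.y v'
      | _, _ => false
  | 8, [f] =>
    let e := R.get f
    !T && Nat.blt f n && Nat.beq e.kind 1 && Nat.beq r.src e.src && Nat.beq r.dst e.dst &&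
      Nat.beq r.xc 1 && P.same r.y (invW e.x ++ e.y)
  | 9, [f] =>
    let e := R.get f
    !T && Nat.blt f n && Nat.beq e.kind 1 && Nat.beq r.src e.dst && Nat.beq r.dst e.src &&
      Nat.beq r.xc e.yc && Nat.beq r.yc e.xc
  | _, _ => false

end Script

namespace Ctx

variable {P : Setting} {Q : Twist} {G X : Type} [Group G] [MulAction G X] (C : Ctx P Q G X)
variable (R : Script) (vert : ℕ → X)

/-- The vertices follow their parents. -/
def VertsOk : Prop :=
  vert 0 = C.p0 ∧ ∀ k < R.par.length,
    vert (k + 1) = C.u • C.W (decW (R.par.getD k (0, 0)).2) • vert (R.par.getD k (0, 0)).1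

/-- The meaning of a record. -/
def Holds (r : Rec) : Prop :=
  if r.kind = 0 then C.T (vert r.src) r.x (vert r.dst) r.y
  else C.E (vert r.src) r.x (vert r.dst) r.y

variable {R vert}

theorem holds_T {r : Rec} (h : C.Holds vert r) (e : r.kind = 0) :
    C.T (vert r.src) r.x (vert r.dst) r.y := by rwa [Holds, if_pos e] at h

theorem holds_E {r : Rec} (h : C.Holds vert r) (e : r.kind = 1) :
    C.E (vert r.src) r.x (vert r.dst) r.y := by rwa [Holds, if_neg (by omega)] at h

theorem holds_S {r : Rec} (h : C.Holds vert r) (e : r.kind = 1) (ey : r.yc = 1) {p : ℕ}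
    (hs : r.src = p) (hd : r.dst = p) : C.S (vert p) r.x := by
  have h' := C.holds_E h e
  rw [hs, hd] at h'
  have : r.y = [] := by rw [Rec.y, ey]; rfl
  rw [this] at h'
  simpa [Ctx.E, Ctx.S] using h'

theorem stab_sound {n p : ℕ} (hn : ∀ i < n, C.Holds vert (R.get i)) :
    ∀ {l : List ℕ} {w : List ℕ}, R.stab n p l = some w → C.S (vert p) w
  | [], w, h => by
    obtain rfl : [] = w := Option.some.inj h
    exact C.stOne _
  | i :: l, w, h => by
    simp only [Script.stab] at h
    cases hb : (Nat.blt i n && Nat.beq (R.get i).kind 1 && Nat.beq (R.get i).src p &&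
      Nat.beq (R.get i).dst p && Nat.beq (R.get i).yc 1) with
    | false => simp [hb] at h
    | true =>
      simp only [hb, cond_true, Option.map_eq_some_iff] at h
      obtain ⟨w', hw', rfl⟩ := h
      simp only [Bool.and_eq_true, Nat.blt_eq, Nat.beq_eq] at hb
      obtain ⟨⟨⟨⟨hi, hk⟩, hs⟩, hd⟩, hy⟩ := hb
      have h1 := C.holds_S (hn i hi) hk hy hs hd
      have h2 := stab_sound hn hw'
      show C.W _ • _ = _
      rw [C.W_append, mul_smul, h2, h1]

theorem uStep_sound {n p q : ℕ} {u v : List ℕ} {js : List ℕ}
    (hn : ∀ i < n, C.Holds vert (R.get i)) (h : R.uStep P Q n p u js = some (q, v)) :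
    C.T (vert p) u (vert q) v := by
  match js, h with
  | [fd, lc, sc], h =>
    simp only [Script.uStep] at h
    set r := R.get (fd / 2) with hr
    set fl := Nat.beq (fd % 2) 1 with hfl
    cases hb : (Nat.blt (fd / 2) n && Nat.beq r.kind 0 &&
        Nat.beq (bif fl then r.dst else r.src) p) with
    | false => simp [hb] at h
    | true =>
      simp only [hb, cond_true] at h
      split at h
      next l hl =>
        cases hc : (P.same u (expand P.kgens (decK sc) ++ (bif fl then Q.post ++ r.y else r.x) ++ l) &&
            ltW P.ng (bif fl then invW Q.pre ++ r.x else r.y)) with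
        | false =>
          simp only [hc, cond_false] at h
          simp at h
        | true =>
          simp only [hc, cond_true, Option.some.injEq, Prod.mk.injEq] at h
          obtain ⟨rfl, rfl⟩ := h
          simp only [Bool.and_eq_true, Nat.blt_eq, Nat.beq_eq] at hb hc
          have hT := C.holds_T (hn _ hb.1.1) hb.1.2
          have hS := C.stab_sound hn hl
          have hk := C.twist_ok
          simp only [Bool.and_eq_true, List.all_eq_true] at hk
          have hlt : ∀ w, ltW P.ng w = true → ltW P.ng (expand Q.kth (decK sc) ++ w) = true := by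
            intro w hw
            refine ltW_append.2 ⟨ltW_iff.2 fun g hg => ?_, hw⟩
            obtain ⟨blk, hblk, hg⟩ := List.mem_flatten.1 hg
            obtain ⟨i, -, rfl⟩ := List.mem_map.1 hblk
            by_cases hi : i < Q.kth.length
            · rw [List.getD_eq_getElem _ _ hi] at hg
              exact ltW_iff.1 (hk.2 _ (List.getElem_mem hi)) g hg
            · rw [List.getD_eq_default _ _ (not_lt.1 hi)] at hg
              simp at hg
          have hrefl : ∀ w, ltW P.ng w = true → P.same w w = true := fun w hw => by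
            simp [Setting.same, hw]
          cases hf : fl with
          | false =>
            simp only [hf, cond_false] at hb hc ⊢
            rw [← hb.2]
            rw [← hb.2] at hS
            exact C.conv hT hS u _ _ hc.1 (hrefl _ (hlt _ hc.2))
          | true =>
            simp only [hf, cond_true] at hb hc ⊢
            rw [← hb.2]
            rw [← hb.2] at hS
            have hsx : ltW P.ng (Q.post ++ r.y) = true := by
              have := (ltW_append.1 (ltW_append.1 (Ctx.same_right hc.1)).1).2
              exact this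
            have hfl' := C.flip hT (Q.post ++ r.y) (invW Q.pre ++ r.x) (hrefl _ hsx) (hrefl _ hc.2)
            exact C.conv hfl' hS u _ _ hc.1 (hrefl _ (hlt _ hc.2))
      next => simp at h
  | [], h => simp [Script.uStep] at h
  | [_], h => simp [Script.uStep] at h
  | [_, _], h => simp [Script.uStep] at h
  | _ :: _ :: _ :: _ :: _, h => simp [Script.uStep] at h

theorem walk_sound {n : ℕ} (hn : ∀ i < n, C.Holds vert (R.get i)) :
    ∀ {ops : List (Option (List ℕ))} {p : ℕ} {u : List ℕ} {js : List ℕ} {q : ℕ} {v : List ℕ},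
      R.walk P Q n ops p u js = some (q, v) → C.Path ops (vert p) u (vert q) v
  | [], p, u, [], q, v, h => by
    simp only [Script.walk, Option.some.injEq, Prod.mk.injEq] at h
    obtain ⟨rfl, rfl⟩ := h
    exact C.pNil _ _
  | [], p, u, _ :: _, q, v, h => by simp [Script.walk] at h
  | some g :: ops, p, u, js, q, v, h => by
    have h' := walk_sound hn (ops := ops) (p := p) (u := g ++ u) (js := js) h
    show C.prodOps (some g :: ops) • C.W u • vert p = C.W v • vert q
    rw [show C.prodOps (some g :: ops) = C.prodOps ops * C.W g from rfl, mul_smul,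
      ← mul_smul (C.W g), ← C.W_append]
    exact h'
  | none :: ops, p, u, fd :: lc :: sc :: js, q, v, h => by
    simp only [Script.walk] at h
    split at h
    next q' v' hs => exact C.pT (C.uStep_sound hn hs) (walk_sound hn h)
    next => simp at h
  | none :: ops, p, u, [], q, v, h => by simp [Script.walk] at h
  | none :: ops, p, u, [_], q, v, h => by simp [Script.walk] at h
  | none :: ops, p, u, [_, _], q, v, h => by simp [Script.walk] at h

theorem endOk_sound {n p q : ℕ} {u v : List ℕ} {ops : List (Option (List ℕ))} {js : List ℕ} {lc : ℕ}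
    (hn : ∀ i < n, C.Holds vert (R.get i))
    (h : R.endOk P n (R.walk P Q n ops p u js) q v lc = true) : C.Path ops (vert p) u (vert q) v := by
  simp only [Script.endOk] at h
  split at h
  next q' v' l hg hl =>
    simp only [Bool.and_eq_true, Nat.beq_eq] at h
    obtain ⟨rfl, hs⟩ := h
    have hp := C.walk_sound hn hg
    have hS := C.stab_sound hn hl
    show C.prodOps ops • C.W u • vert p = C.W v • vert q'
    rw [(hp : C.prodOps ops • C.W u • vert p = C.W v' • vert q'), C.W_same hs, C.W_append, mul_smul,
      hS]
  next => simp at h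

theorem rec_sound (hV : C.VertsOk R vert) {n : ℕ} (hn : ∀ i < n, C.Holds vert (R.get i))
    (h : R.recOk P Q n = true) : C.Holds vert (R.get n) := by
  simp only [Script.recOk, Bool.and_eq_true] at h
  obtain ⟨⟨hx, hy⟩, h⟩ := h
  set r := R.get n with hr
  have hk01 : r.kind = 0 ∨ r.kind = 1 := by simp only [Rec.kind]; omega
  have hyn : r.yc = 1 → r.y = [] := fun e => by rw [Rec.y, e]; rfl
  have hxn : r.xc = 1 → r.x = [] := fun e => by rw [Rec.x, e]; rfl
  have mkE : r.kind ≠ 0 → C.E (vert r.src) r.x (vert r.dst) r.y → C.Holds vert r := fun hk he => by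
    rw [Holds, if_neg hk]; exact he
  have mkT : r.kind = 0 → C.T (vert r.src) r.x (vert r.dst) r.y → C.Holds vert r := fun hk he => by
    rw [Holds, if_pos hk]; exact he
  have notT : (!Nat.beq r.kind 0) = true → r.kind ≠ 0 := fun e hk => by rw [hk] at e; simp at e
  split at h
  · simp only [Bool.and_eq_true, Nat.beq_eq] at h
    obtain ⟨⟨⟨hT, hs⟩, hd⟩, hy1⟩ := h
    refine mkE (notT hT) ?_
    rw [hs, hd, hyn hy1, hV.1]
    have := C.stRoot hx
    simpa [Ctx.E, Ctx.S] using this
  · simp only [Bool.and_eq_true, Nat.beq_eq, Nat.blt_eq] at h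
    obtain ⟨⟨⟨⟨⟨hT, hd0⟩, hy1⟩, hlen⟩, hp⟩, hxc⟩ := h
    refine mkT hT ?_
    have hv := hV.2 _ hlen
    rw [hp, hxc, Nat.sub_add_cancel hd0] at hv
    rw [hyn hy1, hv]
    exact C.defn _ _
  · rename_i k i pp pu la lb js _ _
    simp only [Bool.and_eq_true, Bool.or_eq_true] at h
    obtain ⟨⟨⟨hsplit, hu0⟩, hA⟩, hB⟩ := h
    have pA := C.endOk_sound hn hA
    have pB := C.endOk_sound hn hB
    have hloop := C.loop k
    set ops := Q.loops.getD k [] with hops
    rcases hk01 with hk | hk
    · refine mkT hk ?_
      have hb : Nat.beq r.kind 0 = true := by rw [hk]; rfl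
      rw [hb] at pB
      rcases hsplit with e | e
      · rw [hb] at e; simp at e
      · split at e
        next rest heq =>
          refine C.closeT pA pB ?_
          have e2 : ops.drop (i + 1) = rest := by
            rw [← List.drop_drop, heq]; rfl
          rw [cond_true, e2, ← heq, List.take_append_drop]
          exact hloop
        next => simp at e
    · refine mkE (by omega) ?_
      have hb : Nat.beq r.kind 0 = false := by rw [hk]; rfl
      rw [hb] at pB
      refine C.closeE pA pB ?_
      rw [cond_false, List.take_append_drop]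
      exact hloop
  · rename_i f _ _
    simp only [Bool.and_eq_true, Nat.beq_eq, Nat.blt_eq] at h
    obtain ⟨⟨⟨⟨⟨⟨⟨hT, hf⟩, hk⟩, hsd⟩, hs⟩, hd⟩, hy1⟩, he⟩ := h
    have hE := C.holds_E (hn f hf) hk
    rw [← hsd] at hE
    refine mkE (notT hT) ?_
    rw [hs, hd, hyn hy1]
    have := C.stEq hE _ he
    simpa [Ctx.E, Ctx.S] using this
  · rename_i f g _ _
    simp only [Bool.and_eq_true, Nat.beq_eq, Nat.blt_eq] at h
    obtain ⟨⟨⟨⟨⟨⟨⟨⟨⟨⟨⟨hT, hf⟩, hg⟩, hek⟩, hey⟩, hesd⟩, hmk⟩, hms⟩, hs⟩, hd⟩, hy1⟩, he⟩ := h
    have hS := C.holds_S (hn f hf) hek hey rfl hesd.symm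
    have hM := C.holds_E (hn g hg) hmk
    rw [hms] at hM
    refine mkE (notT hT) ?_
    rw [hs, hd, hyn hy1]
    have := C.stConj hS hM _ he
    simpa [Ctx.E, Ctx.S] using this
  · rename_i f g _ _
    simp only [Bool.and_eq_true, Nat.beq_eq, Nat.blt_eq] at h
    obtain ⟨⟨⟨⟨⟨⟨⟨⟨hf, hg⟩, hek⟩, hmk⟩, hmid⟩, hs⟩, hxc⟩, hd⟩, he⟩ := h
    have hM := C.holds_E (hn g hg) hmk
    rw [← hmid] at hM
    set e := R.get f with hee
    set m := R.get g with hmm
    have hmx : ltW P.ng m.x = true := C.ltW_of_invW
      (ltW_append.1 (ltW_append.1 (Ctx.same_right he)).1).2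
    have key : C.W r.y • vert m.dst = C.W e.y • vert e.dst := by
      rw [C.W_same he, C.W_append, C.W_append, C.W_invW hmx, mul_smul, mul_smul,
        ← (hM : C.W m.x • vert e.dst = C.W m.y • vert m.dst), inv_smul_smul]
    have hxx : r.x = e.x := by rw [Rec.x, Rec.x, hxc]
    have hh := hn f hf
    rcases hk01 with hk | hk
    · refine mkT hk ?_
      show C.u • C.W r.x • vert r.src = C.W r.y • vert r.dst
      rw [hs, hxx, hd, key]
      exact C.holds_T hh (hek.trans hk)
    · refine mkE (by omega) ?_
      show C.W r.x • vert r.src = C.W r.y • vert r.dst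
      rw [hs, hxx, hd, key]
      exact C.holds_E hh (hek.trans hk)
  · rename_i f g _ _
    simp only [Bool.and_eq_true, Nat.beq_eq, Nat.blt_eq] at h
    obtain ⟨⟨⟨⟨⟨⟨⟨⟨hf, hg⟩, hek⟩, hmk⟩, hmid⟩, hd⟩, hyc⟩, hs⟩, he⟩ := h
    have hM := C.holds_E (hn g hg) hmk
    rw [← hmid] at hM
    set e := R.get f with hee
    set m := R.get g with hmm
    have hmx : ltW P.ng m.x = true := C.ltW_of_invW
      (ltW_append.1 (ltW_append.1 (Ctx.same_right he)).1).2
    have key : C.W r.x • vert m.dst = C.W e.x • vert e.src := by
      rw [C.W_same he, C.W_append, C.W_append, C.W_invW hmx, mul_smul, mul_smul,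
        ← (hM : C.W m.x • vert e.src = C.W m.y • vert m.dst), inv_smul_smul]
    have hyy : r.y = e.y := by rw [Rec.y, Rec.y, hyc]
    have hh := hn f hf
    rcases hk01 with hk | hk
    · refine mkT hk ?_
      show C.u • C.W r.x • vert r.src = C.W r.y • vert r.dst
      rw [hs, hyy, hd, key]
      exact C.holds_T hh (hek.trans hk)
    · refine mkE (by omega) ?_
      show C.W r.x • vert r.src = C.W r.y • vert r.dst
      rw [hs, hyy, hd, key]
      exact C.holds_E hh (hek.trans hk)
  · rename_i p uc fd lc sc fd' lc' sc' _ _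
    simp only [Bool.and_eq_true] at h
    obtain ⟨hT, h⟩ := h
    split at h
    next q v q' v' hs hs' =>
      simp only [Bool.and_eq_true, Nat.beq_eq] at h
      have h1 := C.uStep_sound hn hs
      have h2 := C.uStep_sound hn hs'
      refine mkE (notT hT) ?_
      show C.W r.x • vert r.src = C.W r.y • vert r.dst
      rw [← h.1.1.1, ← h.1.2, C.W_same h.1.1.2, C.W_same h.2]
      exact C.sameSrc h1 h2
    next => simp at h
  · rename_i f _ _
    simp only [Bool.and_eq_true, Nat.beq_eq, Nat.blt_eq] at h
    obtain ⟨⟨⟨⟨⟨⟨hT, hf⟩, hk⟩, hs⟩, hd⟩, hx1⟩, he⟩ := h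
    have hE := C.holds_E (hn f hf) hk
    refine mkE (notT hT) ?_
    show C.W r.x • vert r.src = C.W r.y • vert r.dst
    have hex : ltW P.ng (R.get f).x = true := C.ltW_of_invW (ltW_append.1 (Ctx.same_right he)).1
    rw [hs, hd, hxn hx1, C.W_nil, one_smul, C.W_same he, C.W_append, C.W_invW hex, mul_smul,
      eq_inv_smul_iff]
    exact hE
  · rename_i f _ _
    simp only [Bool.and_eq_true, Nat.beq_eq, Nat.blt_eq] at h
    obtain ⟨⟨⟨⟨⟨⟨hT, hf⟩, hk⟩, hs⟩, hd⟩, hxc⟩, hyc⟩ := h
    have hE := C.holds_E (hn f hf) hk
    refine mkE (notT hT) ?_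
    show C.W r.x • vert r.src = C.W r.y • vert r.dst
    rw [hs, hd, show r.x = (R.get f).y from by rw [Rec.x, Rec.y, hxc],
      show r.y = (R.get f).x from by rw [Rec.y, Rec.x, hyc]]
    exact hE.symm
  · simp at h

/-- All checked records hold. -/
theorem all_sound (hV : C.VertsOk R vert) {N : ℕ} (h : ∀ n < N, R.recOk P Q n = true) :
    ∀ n < N, C.Holds vert (R.get n) := by
  intro n
  induction n using Nat.strong_induction_on with
  | _ n ih => exact fun hn => C.rec_sound hV (fun i hi => ih i hi (hi.trans hn)) (h n hn)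

end Ctx

end CfsgLib.OrbitEnum
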