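import Cfsg.Agent.Lib.OrbitEnum.Chain
import Mathlib.Algebra.Group.Prod

/-!
# The model of a finite group given by generators and relations

A group with a bound on its order acts on two tables. Triples of a group element and two
permutations form a group of exactly that order, so equations of words are read off a base, and the
stabiliser of the first coset is generated by the given words.
-/

set_option autoImplicit false

namespace CfsgLib.OrbitEnum

/-- The data: a faithful table, a table of cosets, the relators and the chains. -/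
structure Setting where
  /-- the faithful table -/
  T1 : Tbl
  /-- the table of cosets -/
  T2 : Tbl
  /-- the relators -/
  rels : List (List ℕ)
  /-- the order -/
  size : ℕ
  /-- a chain of the faithful table -/
  chain : List Level
  /-- the orbit of the first coset -/
  top : Level
  /-- generators of the stabiliser of the first coset -/
  kgens : List (List ℕ)
  /-- a chain of this stabiliser, the generators as lists of indices -/
  kchain : List Level

/-- A product of listed words. -/
def expand (W : List (List ℕ)) (s : List ℕ) : List ℕ := (s.map fun i => W.getD i []).flatten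

namespace Setting

variable (P : Setting)

/-- The number of letters. -/
abbrev ng : ℕ := P.T1.ng

/-- The base. -/
def base : List ℕ := chainPts [] P.chain

/-- The levels of the stabiliser as words. -/
def kLevels : List Level := P.kchain.map fun L => { L with gens := L.gens.map (expand P.kgens) }

/-- The conditions on the data, and the bound on the order. -/
structure Valid : Prop where
  ok1 : P.T1.Ok
  ok2 : P.T2.Ok
  ng_eq : P.T2.ng = P.T1.ng
  rels1 : ∀ w ∈ P.rels, P.T1.fixAll w = true
  rels2 : ∀ w ∈ P.rels, P.T2.fixAll w = true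
  chain_ok : chainOk P.T1 [] P.chain = true ∧ chainSize P.chain = P.size
  top_ok : chainOk P.T2 [] [P.top] = true ∧ P.top.pt = 0
  top_len : P.top.rows.length + 1 = P.T2.n
  kgens_ok : (P.kgens.all fun w => ltW P.T1.ng w && Nat.beq (P.T2.img w 0) 0) = true
  kchain_ok : chainOk P.T1 [] P.kLevels = true ∧
    (P.top.rows.length + 1) * chainSize P.kLevels = P.size
  bound : ∀ {H : Type} [Group H] (x : ℕ → H), (∀ g < P.T1.ng, x (g ^^^ 1) = (x g)⁻¹) →
    (∀ w ∈ P.rels, wEval x w = 1) →
    Subgroup.closure (Set.range fun g : Fin P.T1.ng => x g) = ⊤ → Finite H ∧ Nat.card H ≤ P.size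

/-- Two words have the same images of the base. -/
def same (u v : List ℕ) : Bool :=
  ltW P.ng u && ltW P.ng v && P.base.all fun p => Nat.beq (P.T1.img u p) (P.T1.img v p)

/-- The hypotheses on generators of a group. -/
structure Gens {G : Type} [Group G] (el : ℕ → G) : Prop where
  inv : ∀ g < P.T1.ng, el (g ^^^ 1) = (el g)⁻¹
  sat : ∀ w ∈ P.rels, wEval el w = 1

variable {G : Type} [Group G] (el : ℕ → G)

/-- The generating triples. -/
noncomputable def trio (g : ℕ) : G × Equiv.Perm (Fin P.T1.n) × Equiv.Perm (Fin P.T2.n) :=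
  (el g, P.T1.perm g, P.T2.perm g)

/-- The group of triples. -/
abbrev Mg : Type := ↥(Subgroup.closure (Set.range fun g : Fin P.T1.ng => P.trio el g))

/-- The triple of a letter. -/
noncomputable def mg (g : ℕ) : P.Mg el :=
  if h : g < P.T1.ng then ⟨P.trio el g, Subgroup.subset_closure ⟨⟨g, h⟩, rfl⟩⟩ else 1

/-- The projection to the group. -/
noncomputable def pr : P.Mg el →* G :=
  (MonoidHom.fst G _).comp (Subgroup.closure _).subtype

/-- The action on the faithful table. -/
noncomputable def rho1 : P.Mg el →* Equiv.Perm (Fin P.T1.n) :=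
  ((MonoidHom.fst _ _).comp (MonoidHom.snd G _)).comp (Subgroup.closure _).subtype

/-- The action on the cosets. -/
noncomputable def rho2 : P.Mg el →* Equiv.Perm (Fin P.T2.n) :=
  ((MonoidHom.snd _ _).comp (MonoidHom.snd G _)).comp (Subgroup.closure _).subtype

variable {P el}

theorem mg_val {g : ℕ} (hg : g < P.T1.ng) : (P.mg el g).1 = P.trio el g := by rw [mg, dif_pos hg]

theorem rho1_mg {g : ℕ} (hg : g < P.T1.ng) : P.rho1 el (P.mg el g) = P.T1.perm g := by
  show (P.mg el g).1.2.1 = _
  rw [mg_val hg]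
  rfl

theorem rho2_mg {g : ℕ} (hg : g < P.T1.ng) : P.rho2 el (P.mg el g) = P.T2.perm g := by
  show (P.mg el g).1.2.2 = _
  rw [mg_val hg]
  rfl

theorem pr_wEval {w : List ℕ} (hw : ltW P.T1.ng w = true) :
    P.pr el (wEval (P.mg el) w) = wEval el w := by
  rw [map_wEval]
  refine wEval_congr _ hw fun g hg => ?_
  show (P.mg el g).1.1 = _
  rw [mg_val hg]
  rfl

theorem rho2_hom (hP : P.Valid) : ∀ g < P.T2.ng, P.rho2 el (P.mg el g) = P.T2.perm g :=
  fun _ hg => rho2_mg (hP.ng_eq ▸ hg)

theorem mg_inv (hP : P.Valid) (hG : P.Gens el) : ∀ g < P.T1.ng, P.mg el (g ^^^ 1) = (P.mg el g)⁻¹ := by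
  intro g hg
  refine Subtype.ext ?_
  rw [mg_val (hP.ok1.xor_lt hg), Subgroup.coe_inv, mg_val hg]
  refine Prod.ext (hG.inv g hg) (Prod.ext (hP.ok1.perm_xor hg) ?_)
  exact hP.ok2.perm_xor (hP.ng_eq.symm ▸ hg)

theorem mg_gen : Subgroup.closure (Set.range fun g : Fin P.T1.ng => P.mg el g) = ⊤ := by
  refine Subgroup.map_injective (Subgroup.closure _).subtype_injective ?_
  rw [MonoidHom.map_closure, ← MonoidHom.range_eq_map, Subgroup.range_subtype]
  congr 1
  rw [← Set.range_comp]
  exact congrArg Set.range (funext fun g => mg_val g.2)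

theorem rel_lt (hP : P.Valid) {w : List ℕ} (hw : w ∈ P.rels) : ltW P.T1.ng w = true := by
  have := hP.rels1 w hw
  rw [Tbl.fixAll, Bool.and_eq_true] at this
  exact this.1

theorem m_sat (hP : P.Valid) (hG : P.Gens el) : ∀ w ∈ P.rels, wEval (P.mg el) w = 1 := by
  intro w hw
  have hlt := rel_lt hP hw
  refine Subtype.ext (Prod.ext ?_ (Prod.ext ?_ ?_))
  · exact (pr_wEval hlt).trans (hG.sat w hw)
  · have e := map_wEval (P.mg el) (P.rho1 el) w
    rw [wEval_congr _ hlt fun g hg => rho1_mg (el := el) hg, hP.ok1.eval_eq_one (hP.rels1 w hw)] at e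
    exact e
  · have e := map_wEval (P.mg el) (P.rho2 el) w
    rw [wEval_congr _ hlt fun g hg => rho2_mg (el := el) hg, hP.ok2.eval_eq_one (hP.rels2 w hw)] at e
    exact e

theorem m_finite (hP : P.Valid) (hG : P.Gens el) : Finite (P.Mg el) :=
  (hP.bound (P.mg el) (mg_inv hP hG) (m_sat hP hG) mg_gen).1

theorem m_card (hP : P.Valid) (hG : P.Gens el) : Nat.card (P.Mg el) = P.size := by
  haveI := m_finite hP hG
  refine le_antisymm (hP.bound (P.mg el) (mg_inv hP hG) (m_sat hP hG) mg_gen).2 ?_
  have := chain_card hP.ok1 (P.rho1 el) (fun g hg => rho1_mg hg) ⊤ hP.chain_ok.1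
    fun _ _ _ _ => Subgroup.mem_top _
  rwa [hP.chain_ok.2, Subgroup.card_top] at this

theorem fix_base (hP : P.Valid) (hG : P.Gens el) : fixOf (P.rho1 el) P.base = ⊥ := by
  haveI := m_finite hP hG
  have h := chain_bound hP.ok1 (P.rho1 el) (fun g hg => rho1_mg hg) ⊤ hP.chain_ok.1
    fun _ _ _ _ => Subgroup.mem_top _
  rw [hP.chain_ok.2, top_inf_eq, top_inf_eq] at h
  have h0 := Subgroup.card_le_card_group (fixOf (P.rho1 el) [])
  rw [m_card hP hG] at h0
  have hpos : 0 < Nat.card (fixOf (P.rho1 el) P.base) := Nat.card_pos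
  have hsz : 0 < P.size := (m_card hP hG) ▸ Nat.card_pos
  refine Subgroup.card_eq_one.1 (le_antisymm ?_ hpos)
  exact Nat.le_of_mul_le_mul_left (h.trans (h0.trans (by rw [mul_one]))) hsz

theorem mg_eq_of_same (hP : P.Valid) (hG : P.Gens el) {u v : List ℕ} (e : P.same u v = true) :
    wEval (P.mg el) u = wEval (P.mg el) v := by
  simp only [same, Bool.and_eq_true, List.all_eq_true, Nat.beq_eq] at e
  obtain ⟨⟨hu, hv⟩, hp⟩ := e
  have hm : wEval (P.mg el) v * (wEval (P.mg el) u)⁻¹ ∈ fixOf (P.rho1 el) P.base := by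
    intro p hp'
    rw [map_mul, map_inv, Equiv.Perm.mul_apply]
    have : (P.rho1 el (wEval (P.mg el) u))⁻¹ p = (P.rho1 el (wEval (P.mg el) v))⁻¹ p :=
      Fin.ext (by
        rw [img_of_hom hP.ok1 (fun g hg => rho1_mg hg) hu, img_of_hom hP.ok1 (fun g hg => rho1_mg hg) hv,
          hp p.1 hp'])
    rw [this]; simp
  rw [fix_base hP hG, Subgroup.mem_bot, mul_inv_eq_one] at hm
  exact hm.symm

theorem eq_of_same (hP : P.Valid) (hG : P.Gens el) {u v : List ℕ} (e : P.same u v = true) :
    wEval el u = wEval el v := by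
  have h := congrArg (P.pr el) (mg_eq_of_same hP hG e)
  simp only [same, Bool.and_eq_true] at e
  rwa [pr_wEval e.1.1, pr_wEval e.1.2] at h

/-- The first coset. -/
def pt0 (hP : P.Valid) : Fin P.T2.n := ⟨0, by
  have := hP.top_ok
  simp only [chainOk, Bool.and_eq_true, Nat.blt_eq] at this
  obtain ⟨⟨⟨⟨h, -⟩, -⟩, -⟩, e⟩ := this
  exact e ▸ h⟩

theorem expand_mem {K : Subgroup (P.Mg el)} (hK : ∀ w ∈ P.kgens, wEval (P.mg el) w ∈ K) :
    ∀ s : List ℕ, wEval (P.mg el) (expand P.kgens s) ∈ K
  | [] => one_mem _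
  | i :: s => by
    rw [show expand P.kgens (i :: s) = P.kgens.getD i [] ++ expand P.kgens s from rfl, wEval_append]
    refine mul_mem ?_ (expand_mem hK s)
    by_cases hi : i < P.kgens.length
    · rw [List.getD_eq_getElem _ _ hi]
      exact hK _ (List.getElem_mem hi)
    · rw [List.getD_eq_default _ _ (not_lt.1 hi)]
      exact one_mem _

/-- The stabiliser of the first coset is generated by the given words. -/
theorem fix_zero (hP : P.Valid) (hG : P.Gens el) : fixOf (P.rho2 el) [0] =
    Subgroup.closure {m | ∃ w ∈ P.kgens, wEval (P.mg el) w = m} := by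
  haveI := m_finite hP hG
  set C := Subgroup.closure {m | ∃ w ∈ P.kgens, wEval (P.mg el) w = m} with hC
  have hle : C ≤ fixOf (P.rho2 el) [0] := by
    rw [hC, Subgroup.closure_le]
    rintro m ⟨w, hw, rfl⟩ p hp
    rw [List.mem_singleton] at hp
    have hk := List.all_eq_true.1 hP.kgens_ok w hw
    rw [Bool.and_eq_true, Nat.beq_eq] at hk
    have hi := img_of_hom hP.ok2 (rho2_hom (el := el) hP) (hP.ng_eq.symm ▸ hk.1 : ltW P.T2.ng w = true) p
    rw [hp, hk.2] at hi
    have e : (P.rho2 el (wEval (P.mg el) w))⁻¹ p = p := Fin.ext (hi.trans hp.symm)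
    exact (Equiv.Perm.inv_eq_iff_eq.1 e).symm
  have hlow : chainSize P.kLevels ≤ Nat.card C :=
    chain_card hP.ok1 (P.rho1 el) (fun g hg => rho1_mg hg) C hP.kchain_ok.1 fun L hL w hw => by
      obtain ⟨L', -, rfl⟩ := List.mem_map.1 hL
      obtain ⟨s, -, rfl⟩ := List.mem_map.1 hw
      refine expand_mem ?_ s
      exact fun k hk => Subgroup.subset_closure ⟨k, hk, rfl⟩
  have hupp := chain_bound hP.ok2 (P.rho2 el) (rho2_hom (el := el) hP) ⊤ hP.top_ok.1
    fun _ _ _ _ => Subgroup.mem_top _
  rw [chainSize, chainSize, mul_one, show chainPts [] [P.top] = [0] from by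
    simp [chainPts, hP.top_ok.2], top_inf_eq, top_inf_eq] at hupp
  have htot := Subgroup.card_le_card_group (fixOf (P.rho2 el) [])
  rw [m_card hP hG] at htot
  refine (Subgroup.eq_of_le_of_card_ge hle ?_).symm
  refine le_trans ?_ hlow
  exact Nat.le_of_mul_le_mul_left (hupp.trans (htot.trans hP.kchain_ok.2.ge)) (Nat.succ_pos _)

theorem fix_zero_card (hP : P.Valid) (hG : P.Gens el) :
    Nat.card (fixOf (P.rho2 el) [0]) = chainSize P.kLevels := by
  haveI := m_finite hP hG
  refine le_antisymm ?_ ?_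
  · have hupp := chain_bound hP.ok2 (P.rho2 el) (rho2_hom (el := el) hP) ⊤ hP.top_ok.1
      fun _ _ _ _ => Subgroup.mem_top _
    rw [chainSize, chainSize, mul_one, show chainPts [] [P.top] = [0] from by
      simp [chainPts, hP.top_ok.2], top_inf_eq, top_inf_eq] at hupp
    have htot := Subgroup.card_le_card_group (fixOf (P.rho2 el) [])
    rw [m_card hP hG] at htot
    exact Nat.le_of_mul_le_mul_left (hupp.trans (htot.trans hP.kchain_ok.2.ge)) (Nat.succ_pos _)
  · rw [fix_zero hP hG]
    exact chain_card hP.ok1 (P.rho1 el) (fun g hg => rho1_mg hg) _ hP.kchain_ok.1 fun L hL w hw => by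
      obtain ⟨L', -, rfl⟩ := List.mem_map.1 hL
      obtain ⟨s, -, rfl⟩ := List.mem_map.1 hw
      refine expand_mem ?_ s
      exact fun k hk => Subgroup.subset_closure ⟨k, hk, rfl⟩

/-- A word fixing the first coset gives an element of the stabiliser. -/
theorem mem_fix_zero (hP : P.Valid) {w : List ℕ} (hw : ltW P.T1.ng w = true)
    (e : P.T2.img w 0 = 0) : wEval (P.mg el) w ∈ fixOf (P.rho2 el) [0] := by
  intro p hp
  rw [List.mem_singleton] at hp
  have hi := img_of_hom hP.ok2 (rho2_hom (el := el) hP) (hP.ng_eq.symm ▸ hw : ltW P.T2.ng w = true) p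
  rw [hp, e] at hi
  have e' : (P.rho2 el (wEval (P.mg el) w))⁻¹ p = p := Fin.ext (hi.trans hp.symm)
  exact (Equiv.Perm.inv_eq_iff_eq.1 e').symm

/-- Every element of the model is the value of a word. -/
theorem word_of_mem (hP : P.Valid) (hG : P.Gens el) : ∀ m : P.Mg el,
    ∃ w : List ℕ, ltW P.T1.ng w = true ∧ wEval (P.mg el) w = m := by
  intro m
  induction (mg_gen (el := el) ▸ Subgroup.mem_top m :
      m ∈ Subgroup.closure (Set.range fun g : Fin P.T1.ng => P.mg el g))
    using Subgroup.closure_induction with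
  | mem x hx =>
    obtain ⟨g, rfl⟩ := hx
    exact ⟨[g.1], ltW_iff.2 (by simp), by simp [wEval_cons]⟩
  | one => exact ⟨[], rfl, rfl⟩
  | mul x y _ _ ex ey =>
    obtain ⟨u, hu, rfl⟩ := ex
    obtain ⟨v, hv, rfl⟩ := ey
    exact ⟨u ++ v, ltW_append.2 ⟨hu, hv⟩, wEval_append _ u v⟩
  | inv x _ ex =>
    obtain ⟨u, hu, rfl⟩ := ex
    exact ⟨invW u, ltW_invW (fun g hg => hP.ok1.xor_lt hg) hu,
      wEval_invW _ (mg_inv hP hG) hu⟩

end Setting

end CfsgLib.OrbitEnum
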