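import Cfsg.Agent.Lib.OrbitEnum.Model
import Mathlib.Algebra.Group.Action.Defs

/-!
# Rules for deriving equations between points

A group is generated by a finite subgroup A fixing a point and one more element u which twists a
subgroup of A. Points are images of a few vertices under A.
-/

set_option autoImplicit false

namespace CfsgLib.OrbitEnum

/-- The data of the extra element: its inverse, the twisted generators, the loops. -/
structure Twist where
  /-- the inverse of u is `pre * u * post` -/
  pre : List ℕ
  /-- the second word of the inverse -/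
  post : List ℕ
  /-- the images of the generators of the twisted subgroup -/
  kth : List (List ℕ)
  /-- relations, as lists of steps; the first step acts first -/
  loops : List (List (Option (List ℕ)))

/-- The product of a list of steps. -/
def stepsProd {G : Type} [Group G] (el : ℕ → G) (u : G) : List (Option (List ℕ)) → G
  | [] => 1
  | none :: r => stepsProd el u r * u
  | some g :: r => stepsProd el u r * wEval el g

/-- The elements, the point, and the relations. -/
structure Ctx (P : Setting) (Q : Twist) (G : Type) (X : Type) [Group G] [MulAction G X] where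
  /-- the generators of A -/
  el : ℕ → G
  /-- the extra element -/
  u : G
  /-- the point -/
  p0 : X
  valid : P.Valid
  gens : P.Gens el
  fix : ∀ g < P.ng, el g • p0 = p0
  twist_ok : (ltW P.ng Q.pre && ltW P.ng Q.post && Nat.beq Q.kth.length P.kgens.length &&
    Q.kth.all (ltW P.ng)) = true
  twist : ∀ i < P.kgens.length, u * wEval el (P.kgens.getD i []) = wEval el (Q.kth.getD i []) * u
  u_inv : u⁻¹ = wEval el Q.pre * u * wEval el Q.post
  loop_ok : ∀ r ∈ Q.loops, stepsProd el u r = 1

namespace Ctx

variable {P : Setting} {Q : Twist} {G X : Type} [Group G] [MulAction G X] (C : Ctx P Q G X)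

/-- The element of a word. -/
def W (w : List ℕ) : G := wEval C.el w

theorem W_append (u v : List ℕ) : C.W (u ++ v) = C.W u * C.W v := wEval_append _ u v

@[simp] theorem W_nil : C.W [] = 1 := rfl

theorem W_invW {w : List ℕ} (h : ltW P.ng w = true) : C.W (invW w) = (C.W w)⁻¹ :=
  wEval_invW _ C.gens.inv h

theorem W_same {u v : List ℕ} (e : P.same u v = true) : C.W u = C.W v :=
  Setting.eq_of_same C.valid C.gens e

/-- An equation between points. -/
def E (p : X) (u : List ℕ) (q : X) (v : List ℕ) : Prop := C.W u • p = C.W v • q

/-- An element fixing a point. -/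
def S (p : X) (w : List ℕ) : Prop := C.W w • p = p

/-- The image of a point under u. -/
def T (p : X) (u : List ℕ) (q : X) (v : List ℕ) : Prop := C.u • C.W u • p = C.W v • q

theorem stOne (p : X) : C.S p [] := by simp [S]

theorem stRoot {w : List ℕ} (h : ltW P.ng w = true) : C.S C.p0 w := by
  show C.W w • C.p0 = C.p0
  induction w with
  | nil => simp
  | cons g w ih =>
    rw [W, wEval_cons, mul_smul, show wEval C.el w = C.W w from rfl,
      ih (ltW_iff.2 fun x hx => ltW_iff.1 h x (List.mem_cons_of_mem _ hx))]
    exact C.fix g (ltW_iff.1 h g List.mem_cons_self)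

theorem stMul {p : X} {u v : List ℕ} (hu : C.S p u) (hv : C.S p v) (w : List ℕ)
    (e : P.same w (u ++ v) = true) : C.S p w := by
  show C.W w • p = p
  rw [C.W_same e, C.W_append, mul_smul, hv, hu]

theorem same_right {u v : List ℕ} (e : P.same u v = true) : ltW P.ng v = true := by
  simp only [Setting.same, Bool.and_eq_true] at e
  exact e.1.2

theorem same_left {u v : List ℕ} (e : P.same u v = true) : ltW P.ng u = true := by
  simp only [Setting.same, Bool.and_eq_true] at e
  exact e.1.1

include C in
theorem ltW_of_invW {w : List ℕ} (h : ltW P.ng (invW w) = true) : ltW P.ng w = true := by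
  have := ltW_invW (fun g hg => C.valid.ok1.xor_lt hg) h
  rwa [invW_invW] at this

theorem stInv {p : X} {u : List ℕ} (hu : C.S p u) (w : List ℕ) (e : P.same w (invW u) = true) :
    C.S p w := by
  show C.W w • p = p
  rw [C.W_same e, C.W_invW (C.ltW_of_invW (same_right e)), inv_smul_eq_iff, hu]

theorem stEq {p : X} {u v : List ℕ} (h : C.E p u p v) (w : List ℕ)
    (e : P.same w (invW u ++ v) = true) : C.S p w := by
  show C.W w • p = p
  rw [C.W_same e, C.W_append, C.W_invW (C.ltW_of_invW (ltW_append.1 (same_right e)).1),
    mul_smul, inv_smul_eq_iff]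
  exact h.symm

/-- An element fixing a point moves to a point named by a word. -/
theorem stConj {p q : X} {l x v : List ℕ} (h : C.S p l) (hq : C.E p x q v) (w : List ℕ)
    (e : P.same w (invW v ++ x ++ l ++ invW x ++ v) = true) : C.S q w := by
  show C.W w • q = q
  have hr := same_right e
  have hx : ltW P.ng x = true :=
    (ltW_append.1 (ltW_append.1 (ltW_append.1 (ltW_append.1 hr).1).1).1).2
  have hv : ltW P.ng v = true := (ltW_append.1 hr).2
  rw [C.W_same e, C.W_append, C.W_append, C.W_append, C.W_append, C.W_invW hx, C.W_invW hv]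
  simp only [mul_smul]
  rw [show C.W v • q = C.W x • p from (hq : C.W x • p = C.W v • q).symm, inv_smul_smul,
    (h : C.W l • p = p), show C.W x • p = C.W v • q from hq, inv_smul_smul]

theorem defn (p : X) (r : List ℕ) : C.T p r (C.u • C.W r • p) [] := by
  simp [T]

theorem flip {p q : X} {u v : List ℕ} (h : C.T p u q v) (u' v' : List ℕ)
    (e : P.same u' (Q.post ++ v) = true) (e' : P.same v' (invW Q.pre ++ u) = true) :
    C.T q u' p v' := by
  show C.u • C.W u' • q = C.W v' • p
  have hk := C.twist_ok
  simp only [Bool.and_eq_true] at hk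
  rw [C.W_same e, C.W_same e', C.W_append, C.W_append, C.W_invW hk.1.1.1, mul_smul, mul_smul,
    show C.W v • q = C.u • C.W u • p from (h : C.u • C.W u • p = C.W v • q).symm]
  simp only [← mul_smul]
  congr 1
  have hu := C.u_inv
  rw [show wEval C.el Q.pre = C.W Q.pre from rfl, show wEval C.el Q.post = C.W Q.post from rfl] at hu
  have h1 : C.u * C.W Q.post = (C.W Q.pre)⁻¹ * C.u⁻¹ := by rw [hu]; group
  calc C.u * (C.W Q.post * (C.u * C.W u)) = C.u * C.W Q.post * (C.u * C.W u) := by group
    _ = (C.W Q.pre)⁻¹ * C.W u := by rw [h1]; group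

theorem twist_word : ∀ s : List ℕ,
    C.u * C.W (expand P.kgens s) = C.W (expand Q.kth s) * C.u
  | [] => by simp [expand]
  | i :: s => by
    rw [show expand P.kgens (i :: s) = P.kgens.getD i [] ++ expand P.kgens s from rfl,
      show expand Q.kth (i :: s) = Q.kth.getD i [] ++ expand Q.kth s from rfl, C.W_append, C.W_append,
      ← mul_assoc, mul_assoc _ _ C.u, ← twist_word s]
    by_cases hi : i < P.kgens.length
    · rw [show C.u * C.W (P.kgens.getD i []) = C.W (Q.kth.getD i []) * C.u from C.twist i hi]
      group
    · have hl : Q.kth.length = P.kgens.length := by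
        have hk := C.twist_ok
        simp only [Bool.and_eq_true, Nat.beq_eq] at hk
        exact hk.1.2
      rw [List.getD_eq_default _ _ (not_lt.1 hi), List.getD_eq_default _ _ (by omega)]
      simp

theorem conv {p q : X} {u v l : List ℕ} (h : C.T p u q v) (hl : C.S p l) (u' v' : List ℕ)
    (s : List ℕ) (e : P.same u' (expand P.kgens s ++ u ++ l) = true)
    (e' : P.same v' (expand Q.kth s ++ v) = true) : C.T p u' q v' := by
  show C.u • C.W u' • p = C.W v' • q
  rw [C.W_same e, C.W_same e', C.W_append, C.W_append, C.W_append, mul_smul, mul_smul, mul_smul,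
    hl, ← (h : C.u • C.W u • p = C.W v • q), ← mul_smul, C.twist_word, mul_smul]

/-- A stabiliser of the source gives one of the target. -/
theorem stPush {p q : X} {u v l : List ℕ} (h : C.T p u q v) (hl : C.S p l) (s : List ℕ) (w : List ℕ)
    (e : P.same u (expand P.kgens s ++ u ++ l) = true)
    (e' : P.same w (invW v ++ expand Q.kth s ++ v) = true) : C.S q w := by
  have h' : C.T p u q (expand Q.kth s ++ v) := C.conv h hl u _ s e (by
    simp only [Setting.same, Bool.and_eq_true, List.all_eq_true, Nat.beq_eq] at e' ⊢
    have hr : ltW P.ng (expand Q.kth s ++ v) = true := by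
      rw [List.append_assoc] at e'
      exact (ltW_append.1 e'.1.2).2
    exact ⟨⟨hr, hr⟩, fun _ _ => trivial⟩)
  show C.W w • q = q
  have hr := same_right e'
  rw [C.W_same e', C.W_append, C.W_append, C.W_invW (ltW_append.1 hr).2, mul_smul, mul_smul,
    inv_smul_eq_iff, ← mul_smul, ← C.W_append]
  exact ((h : C.u • C.W u • p = C.W v • q).symm.trans h').symm

theorem sameSrc {p q q' : X} {u v v' : List ℕ} (h : C.T p u q v) (h' : C.T p u q' v') :
    C.E q v q' v' := by
  show C.W v • q = C.W v' • q'
  rw [← (h : C.u • C.W u • p = C.W v • q), ← (h' : C.u • C.W u • p = C.W v' • q')]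

/-- The product of a list of steps, the first step acting first. -/
def prodOps (l : List (Option (List ℕ))) : G := stepsProd C.el C.u l

theorem prodOps_append : ∀ A B : List (Option (List ℕ)),
    C.prodOps (A ++ B) = C.prodOps B * C.prodOps A
  | [], B => by simp [prodOps, stepsProd]
  | none :: r, B => by
    have ih := prodOps_append r B
    simp only [prodOps] at ih ⊢
    rw [List.cons_append, stepsProd, ih, stepsProd, mul_assoc]
  | some g :: r, B => by
    have ih := prodOps_append r B
    simp only [prodOps] at ih ⊢
    rw [List.cons_append, stepsProd, ih, stepsProd, mul_assoc]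

theorem loop (k : ℕ) : C.prodOps (Q.loops.getD k []) = 1 := by
  by_cases hk : k < Q.loops.length
  · rw [List.getD_eq_getElem _ _ hk]
    exact C.loop_ok _ (List.getElem_mem hk)
  · rw [List.getD_eq_default _ _ (not_lt.1 hk)]
    rfl

/-- A path of steps between points. -/
def Path (l : List (Option (List ℕ))) (p : X) (u : List ℕ) (q : X) (v : List ℕ) : Prop :=
  C.prodOps l • C.W u • p = C.W v • q

theorem pNil (p : X) (u : List ℕ) : C.Path [] p u p u := by simp [Path, prodOps, stepsProd]

theorem pT {p q r : X} {u v w : List ℕ} {l : List (Option (List ℕ))} (h : C.T p u q v)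
    (hr : C.Path l q v r w) : C.Path (none :: l) p u r w := by
  show C.prodOps (none :: l) • C.W u • p = C.W w • r
  rw [show C.prodOps (none :: l) = C.prodOps l * C.u from rfl, mul_smul,
    (h : C.u • C.W u • p = C.W v • q)]
  exact hr

theorem pH {p r : X} {u w : List ℕ} {l : List (Option (List ℕ))} (g v : List ℕ)
    (e : P.same v (g ++ u) = true) (hr : C.Path l p v r w) : C.Path (some g :: l) p u r w := by
  show C.prodOps (some g :: l) • C.W u • p = C.W w • r
  rw [show C.prodOps (some g :: l) = C.prodOps l * C.W g from rfl, mul_smul, ← mul_smul (C.W g),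
    ← C.W_append, ← C.W_same e]
  exact hr

theorem closeT {p f q : X} {pu fu qv : List ℕ} {A B : List (Option (List ℕ))}
    (hA : C.Path A p pu f fu) (hB : C.Path B q qv p pu)
    (hR : C.prodOps (A ++ none :: B) = 1) : C.T f fu q qv := by
  show C.u • C.W fu • f = C.W qv • q
  rw [prodOps_append, show C.prodOps (none :: B) = C.prodOps B * C.u from rfl, mul_assoc] at hR
  have h2 : C.u * C.prodOps A * C.prodOps B = 1 := mul_eq_one_comm.1 hR
  rw [← (hA : C.prodOps A • C.W pu • p = C.W fu • f),
    ← (hB : C.prodOps B • C.W qv • q = C.W pu • p), ← mul_smul, ← mul_smul, h2,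
    one_smul]

theorem closeE {p f q : X} {pu fu qv : List ℕ} {A B : List (Option (List ℕ))}
    (hA : C.Path A p pu f fu) (hB : C.Path B q qv p pu)
    (hR : C.prodOps (A ++ B) = 1) : C.E f fu q qv := by
  show C.W fu • f = C.W qv • q
  rw [prodOps_append] at hR
  have h2 : C.prodOps A * C.prodOps B = 1 := mul_eq_one_comm.1 hR
  rw [← (hA : C.prodOps A • C.W pu • p = C.W fu • f),
    ← (hB : C.prodOps B • C.W qv • q = C.W pu • p), ← mul_smul, h2, one_smul]

end Ctx

end CfsgLib.OrbitEnum
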